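import Mathlib
import Cfsg.Prelude.Def_OddOrderLocal
import Cfsg.Agent.Lib.Helper11.BenderF
import Cfsg.Agent.Lib.Helper5.ElemAb

set_option autoImplicit false

namespace Cfsg.Agent.Lib.Helper1.BG12

open Cfsg Cfsg.Agent.Lib

variable {Γ : Type*} [Group Γ] [Finite Γ]

theorem le_of_coprime_index (N K : Subgroup Γ) [N.Normal]
    (h : (Nat.card K).Coprime N.index) : K ≤ N := by
  intro k hk
  have h1 : orderOf (QuotientGroup.mk' N k) ∣ Nat.card K :=
    (orderOf_map_dvd (QuotientGroup.mk' N) k).trans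
      ((Subgroup.orderOf_coe (⟨k, hk⟩ : K)) ▸ orderOf_dvd_natCard (⟨k, hk⟩ : K))
  have h2 : orderOf (QuotientGroup.mk' N k) ∣ N.index := by
    rw [Subgroup.index_eq_card]
    exact orderOf_dvd_natCard _
  have h3 : orderOf (QuotientGroup.mk' N k) = 1 := Nat.eq_one_of_dvd_coprimes h h1 h2
  rw [orderOf_eq_one_iff] at h3
  rwa [QuotientGroup.mk'_apply, QuotientGroup.eq_one_iff] at h3

theorem map_conj_le_of_normal_hall (H : Subgroup Γ) [H.Normal]
    (h : (Nat.card H).Coprime H.index) (K : Subgroup Γ) (hK : Nat.card K = Nat.card H) :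
    K ≤ H :=
  le_of_coprime_index H K (hK ▸ h)

theorem normal_of_hall_nilpotent [Group.IsNilpotent Γ] (H : Subgroup Γ)
    (h : (Nat.card H).Coprime H.index) : H.Normal := by
  by_contra hn
  have h1 : Subgroup.normalizer (H : Set Γ) < ⊤ := by
    rw [lt_top_iff_ne_top]
    intro h2
    exact hn (Subgroup.normalizer_eq_top_iff.mp h2)
  have h2 := Group.normalizerCondition_of_isNilpotent (G := Γ) _ h1
  obtain ⟨x, hx, hxn⟩ := SetLike.exists_of_lt h2
  apply hxn
  set N₁ := Subgroup.normalizer (H : Set Γ) with hN₁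
  have hHN : H ≤ N₁ := Subgroup.le_normalizer
  have hH' : H.map (MulAut.conj x).toMonoidHom ≤ N₁ := by
    rintro _ ⟨y, hy, rfl⟩
    have := (Subgroup.mem_normalizer_iff.mp hx y).mp (hHN hy)
    simpa [MulAut.conj_apply] using this
  have : (H.subgroupOf N₁).Normal := Subgroup.normal_in_normalizer
  have hc1 : Nat.card (H.subgroupOf N₁) = Nat.card H := Helper5.card_subgroupOf_of_le hHN
  have hc2 : Nat.card ((H.map (MulAut.conj x).toMonoidHom).subgroupOf N₁) = Nat.card H := by
    rw [Helper5.card_subgroupOf_of_le hH']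
    exact Subgroup.card_map_of_injective (MulAut.conj x).injective
  have hidx : (H.subgroupOf N₁).index ∣ H.index := by
    have := Subgroup.relIndex_mul_index hHN
    exact Dvd.intro _ this
  have hcop : (Nat.card (H.subgroupOf N₁)).Coprime (H.subgroupOf N₁).index := by
    rw [hc1]
    exact Nat.Coprime.coprime_dvd_right hidx h
  have hle := map_conj_le_of_normal_hall (H.subgroupOf N₁) hcop _ (hc2.trans hc1.symm)
  have hsub : ∀ y ∈ H, x * y * x⁻¹ ∈ H := by
    intro y hy
    have hmem : x * y * x⁻¹ ∈ H.map (MulAut.conj x).toMonoidHom := ⟨y, hy, by simp [MulAut.conj_apply]⟩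
    have := hle (Subgroup.mem_subgroupOf.mpr (show ((⟨x * y * x⁻¹, hH' hmem⟩ : N₁) : Γ) ∈ _ from hmem))
    exact Subgroup.mem_subgroupOf.mp this
  rw [hN₁]
  apply Helper18.mem_normalizer_of_conjSub_le
  intro g hg
  rw [Helper18.mem_conjSub] at hg
  have := hsub _ hg
  have e : x * (x⁻¹ * g * x) * x⁻¹ = g := by group
  rwa [e] at this

end Cfsg.Agent.Lib.Helper1.BG12
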