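import Mathlib
import Cfsg.Prelude.Def_OddOrderLocal
import Cfsg.Agent.Lib.Helper1.BG10.TenSix
import Cfsg.Agent.Lib.Helper1.BG12.HallNilp
import Cfsg.Agent.Lib.Helper11.BenderO
import Cfsg.Agent.Lib.Helper11.BenderS

set_option autoImplicit false

namespace Cfsg.Agent.Lib.Helper1.BG12

open Cfsg Cfsg.Agent.Lib Cfsg.Agent.Lib.Helper18
open Cfsg.Agent.Lib.Helper11.BenderM Cfsg.Agent.Lib.Helper11.BenderN
  Cfsg.Agent.Lib.Helper11.BenderO Cfsg.Agent.Lib.Helper11.BenderE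
  Cfsg.Agent.Lib.Helper11.BenderF Cfsg.Agent.Lib.Helper11.BenderL

variable {G : Type*} [Group G] [Finite G]

theorem good_conjSub {M S : Subgroup G} {p : ℕ} (hS : Good M p S) (g : G) :
    Good (conjSub g M) p (conjSub g S) := by
  refine ⟨hS.1.conjSub g, ?_, Helper11.BenderI.sylow_top_conj p S hS.2.2 g⟩
  intro y hy
  have h1 := hS.2.1 (mem_normalizer_conj hy)
  rw [mem_conjSub]
  exact h1

theorem sigma_of_good (M : Subgroup G) (p : ℕ) [hp : Fact p.Prime] (S : Subgroup G)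
    (hS : Good M p S) (hS1 : S ≠ ⊥) : p ∈ Cfsg.sigma M := by
  obtain ⟨P, hP⟩ := hS.1.exists_sylow
  have hmap : (P : Subgroup M).map M.subtype = S := by
    rw [hP, Subgroup.map_subgroupOf_eq_of_le hS.1.le]
  refine ⟨hp.out, ?_, P, ?_⟩
  · obtain ⟨k, hk⟩ := IsPGroup.iff_card.mp hS.1.isPGroup
    have hk0 : k ≠ 0 := by
      rintro rfl
      rw [pow_zero] at hk
      exact hS1 (Subgroup.card_eq_one.mp hk)
    have h1 : p ∣ Nat.card S := by rw [hk]; exact dvd_pow_self p hk0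
    exact h1.trans (Subgroup.card_dvd_of_le hS.1.le)
  · rw [hmap]
    exact hS.2.1

theorem good_ne_bot {M : Subgroup G} {p : ℕ} [hp : Fact p.Prime] {S : Subgroup G}
    (hS : Good M p S) (hpM : p ∣ Nat.card M) : S ≠ ⊥ := by
  rintro rfl
  apply hS.1.not_dvd
  rw [Subgroup.relIndex_bot_left]
  exact hpM

theorem sigma_conjSub (M : Subgroup G) (p : ℕ) (hp : p ∈ Cfsg.sigma M) (g : G) :
    p ∈ Cfsg.sigma (conjSub g M) := by
  have : Fact p.Prime := ⟨hp.1⟩
  obtain ⟨S, hS⟩ := exists_good_of_sigma M p hp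
  have hS1 := good_ne_bot hS hp.2.1
  apply sigma_of_good _ p _ (good_conjSub hS g)
  intro h
  apply hS1
  rw [← Subgroup.card_eq_one] at h ⊢
  rwa [card_conjSub] at h

theorem conj_of_alpha_sigma (hG : Cfsg.IsMinSimpleOddOrder G) (M H : Subgroup G)
    (hM : IsCoatom M) (hH : IsCoatom H) (q : ℕ) (hqα : q ∈ Cfsg.alpha M)
    (hqσ : q ∈ Cfsg.sigma H) : ∃ g : G, H = conjSub g M := by
  have : Fact q.Prime := ⟨hqα.1⟩
  obtain ⟨P⟩ : Nonempty (Sylow q ↥M) := inferInstance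
  obtain ⟨hgood, hS1⟩ := good_of_alpha hG M hM q hqα P
  obtain ⟨S, hSdef⟩ : ∃ S : Subgroup G, S = (P : Subgroup ↥M).map M.subtype := ⟨_, rfl⟩
  rw [← hSdef] at hgood hS1
  obtain ⟨R, hR⟩ := exists_good_of_sigma H q hqσ
  obtain ⟨x, -, hle⟩ := hR.2.2.exists_conj_le le_top hgood.1.isPGroup
  have hr : ¬ Cfsg.PRankLE q 2 ↥S := by
    obtain ⟨A₀, hA₀M, hA₀e, hA₀3⟩ :=
      Cfsg.Agent.Lib.Helper11.BenderF.exists_elemAb_of_not_pRankLE q M hqα.2
    obtain ⟨y, hy, hle'⟩ := hgood.1.exists_conj_le hA₀M (BG10.elemAb_isPGroup hA₀e)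
    exact Cfsg.Agent.Lib.Helper11.BenderB.not_pRankLE_of_le q _ _ hle' (elemAb_conjSub q y hA₀e)
      (by rw [Helper18.card_conjSub]; exact hA₀3)
  have hStop : S ≠ ⊤ := by
    intro h
    rw [h] at hgood
    exact hM.1 (top_le_iff.mp hgood.1.le)
  obtain ⟨M', ⟨hM', hSM'⟩, huniq⟩ := rank3_unique hG S hStop (fun h => hr (h q hqα.1))
  have e1 : M = M' := huniq M ⟨hM, hgood.1.le⟩
  have hSH : S ≤ conjSub x⁻¹ H := conjSub_le_iff.mp (hle.trans hR.1.le)
  have e2 : conjSub x⁻¹ H = M' := huniq _ ⟨isCoatom_conjSub x⁻¹ hH, hSH⟩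
  refine ⟨x, ?_⟩
  rw [e1, ← e2, conjSub_mul]
  simp [conjSub_one]

theorem sigmaCore_le (M : Subgroup G) : Cfsg.sigmaCore M ≤ M := by
  unfold Cfsg.sigmaCore
  exact Subgroup.map_subtype_le _

theorem alphaCore_le (M : Subgroup G) : Cfsg.alphaCore M ≤ M := by
  unfold Cfsg.alphaCore
  exact Subgroup.map_subtype_le _

theorem map_normal_le_normalizer (M : Subgroup G) (N : Subgroup M) [hN : N.Normal] :
    M ≤ Subgroup.normalizer ((N.map M.subtype : Subgroup G) : Set G) := by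
  intro m hm
  rw [Subgroup.mem_normalizer_iff]
  intro x
  constructor
  · rintro ⟨y, hy, rfl⟩
    exact ⟨⟨m, hm⟩ * y * ⟨m, hm⟩⁻¹, hN.conj_mem y hy ⟨m, hm⟩, by simp⟩
  · rintro ⟨y, hy, hyx⟩
    refine ⟨⟨m, hm⟩⁻¹ * y * ⟨m, hm⟩, ?_, ?_⟩
    · have := hN.conj_mem y hy ⟨m, hm⟩⁻¹
      simpa using this
    · have : (y : G) = m * x * m⁻¹ := hyx
      simp only [Subgroup.subtype_apply, Subgroup.coe_mul, Subgroup.coe_inv, this]
      group

theorem le_normalizer_sigmaCore (M : Subgroup G) :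
    M ≤ Subgroup.normalizer ((Cfsg.sigmaCore M : Subgroup G) : Set G) := by
  unfold Cfsg.sigmaCore
  exact map_normal_le_normalizer M _

theorem le_normalizer_alphaCore (M : Subgroup G) :
    M ≤ Subgroup.normalizer ((Cfsg.alphaCore M : Subgroup G) : Set G) := by
  unfold Cfsg.alphaCore
  exact map_normal_le_normalizer M _

theorem le_of_normal_coprime (M N X : Subgroup G) (hNM : N ≤ M)
    (hN : M ≤ Subgroup.normalizer (N : Set G)) (hXM : X ≤ M)
    (hcop : (Nat.card X).Coprime (N.relIndex M)) : X ≤ N := by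
  have hn : (N.subgroupOf M).Normal := by
    refine ⟨fun n hn g => ?_⟩
    rw [Subgroup.mem_subgroupOf] at hn ⊢
    have := (Subgroup.mem_normalizer_iff.mp (hN g.2) (n : G)).mp hn
    simpa using this
  have h1 : X.subgroupOf M ≤ N.subgroupOf M := by
    apply le_of_coprime_index
    rw [Helper5.card_subgroupOf_of_le hXM]
    exact hcop
  intro x hx
  have := h1 (show (⟨x, hXM hx⟩ : M) ∈ X.subgroupOf M from Subgroup.mem_subgroupOf.mpr hx)
  exact Subgroup.mem_subgroupOf.mp this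

theorem pgroup_le_sigmaCore (hG : Cfsg.IsMinSimpleOddOrder G) (M : Subgroup G) (hM : IsCoatom M)
    (p : ℕ) [hp : Fact p.Prime] (hpσ : p ∈ Cfsg.sigma M) (X : Subgroup G) (hXM : X ≤ M)
    (hXp : IsPGroup p X) : X ≤ Cfsg.sigmaCore M := by
  obtain ⟨h1, -, -⟩ := sigma_hall hG M hM
  apply le_of_normal_coprime M _ X h1.1 (le_normalizer_sigmaCore M) hXM
  obtain ⟨k, hk⟩ := IsPGroup.iff_card.mp hXp
  rw [hk]
  apply Nat.Coprime.pow_left
  exact (Nat.Prime.coprime_iff_not_dvd hp.out).mpr (h1.2.2 p hp.out hpσ)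

theorem pgroup_le_alphaCore (hG : Cfsg.IsMinSimpleOddOrder G) (M : Subgroup G) (hM : IsCoatom M)
    (p : ℕ) [hp : Fact p.Prime] (hpα : p ∈ Cfsg.alpha M) (X : Subgroup G) (hXM : X ≤ M)
    (hXp : IsPGroup p X) : X ≤ Cfsg.alphaCore M := by
  obtain ⟨h1, -, -⟩ := alpha_hall hG M hM
  apply le_of_normal_coprime M _ X h1.1 (le_normalizer_alphaCore M) hXM
  obtain ⟨k, hk⟩ := IsPGroup.iff_card.mp hXp
  rw [hk]
  apply Nat.Coprime.pow_left
  exact (Nat.Prime.coprime_iff_not_dvd hp.out).mpr (h1.2.2 p hp.out hpα)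

theorem sylow_normal_of_nilpotent (N S : Subgroup G) (q : ℕ) [hq : Fact q.Prime]
    (hnil : Group.IsNilpotent N) (hS : IsSylowIn q S N) (M : Subgroup G)
    (hMN : M ≤ Subgroup.normalizer (N : Set G)) : M ≤ Subgroup.normalizer (S : Set G) := by
  obtain ⟨P, hP⟩ := hS.exists_sylow
  have htfae := (isNilpotent_of_finite_tfae (G := N)).out 0 3
  have hPn : (P : Subgroup N).Normal := htfae.mp hnil q hq P
  have hNS : N ≤ Subgroup.normalizer (S : Set G) := by
    intro n hn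
    apply mem_normalizer_of_conjSub_le
    intro y hy
    rw [mem_conjSub] at hy
    have hsN : n⁻¹ * y * n ∈ N := hS.le hy
    have hsP : (⟨n⁻¹ * y * n, hsN⟩ : N) ∈ (P : Subgroup N) := by
      rw [hP, Subgroup.mem_subgroupOf]
      exact hy
    have h1 := hPn.conj_mem _ hsP ⟨n, hn⟩
    rw [hP, Subgroup.mem_subgroupOf] at h1
    have e : ((⟨n, hn⟩ * ⟨n⁻¹ * y * n, hsN⟩ * (⟨n, hn⟩ : N)⁻¹ : N) : G) = y := by
      simp only [Subgroup.coe_mul, Subgroup.coe_inv]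
      group
    rwa [e] at h1
  intro m hm
  apply mem_normalizer_of_conjSub_le
  have h1 : IsSylowIn q (conjSub m S) N := by
    have := hS.conjSub m
    rwa [conjSub_eq_of_mem_normalizer (hMN hm)] at this
  obtain ⟨x, hx, hle⟩ := hS.exists_conj_le h1.le h1.isPGroup
  have h2 := conjSub_le_iff.mp hle
  rwa [conjSub_eq_of_mem_normalizer (hNS (N.inv_mem hx))] at h2

theorem conj_of_sigma_sigma_nilp (hG : Cfsg.IsMinSimpleOddOrder G) (M H : Subgroup G)
    (hM : IsCoatom M) (hH : IsCoatom H) (hnil : Group.IsNilpotent (Cfsg.sigmaCore M))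
    (q : ℕ) (hqM : q ∈ Cfsg.sigma M) (hqH : q ∈ Cfsg.sigma H) : ∃ g : G, H = conjSub g M := by
  have : Fact q.Prime := ⟨hqM.1⟩
  obtain ⟨S, hS⟩ := exists_good_of_sigma M q hqM
  have hS1 := good_ne_bot hS hqM.2.1
  have hSσ : S ≤ Cfsg.sigmaCore M := pgroup_le_sigmaCore hG M hM q hqM S hS.1.le hS.1.isPGroup
  have hSin : IsSylowIn q S (Cfsg.sigmaCore M) := hS.1.of_le hSσ (sigmaCore_le M)
  have hMS : M ≤ Subgroup.normalizer (S : Set G) :=
    sylow_normal_of_nilpotent _ S q hnil hSin M (le_normalizer_sigmaCore M)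
  obtain ⟨R, hR⟩ := exists_good_of_sigma H q hqH
  obtain ⟨x, -, hle⟩ := hR.2.2.exists_conj_le le_top hS.1.isPGroup
  have hcard : Nat.card (conjSub x S) = Nat.card R := by
    rw [card_conjSub]
    exact hS.2.2.card_eq hR.2.2
  have e : conjSub x S = R := Subgroup.eq_of_le_of_card_ge hle hcard.ge
  have hxM : conjSub x M ≤ H := by
    intro y hy
    rw [mem_conjSub] at hy
    apply hR.2.1
    rw [← e]
    have h1 := hMS hy
    rw [Subgroup.mem_normalizer_iff] at h1 ⊢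
    intro z
    rw [mem_conjSub, mem_conjSub]
    have h2 := h1 (x⁻¹ * z * x)
    have e2 : x⁻¹ * y * x * (x⁻¹ * z * x) * (x⁻¹ * y * x)⁻¹ = x⁻¹ * (y * z * y⁻¹) * x := by group
    rwa [e2] at h2
  refine ⟨x, ?_⟩
  have hc := isCoatom_conjSub x hM
  rcases eq_or_lt_of_le hxM with h | h
  · exact h.symm
  · exact absurd (hc.2 H h) hH.1

end Cfsg.Agent.Lib.Helper1.BG12
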