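import Mathlib
import Cfsg.Prelude.Def_OddOrderLocal
import Cfsg.Agent.Lib.Helper1.BG12.SigmaDisjoint
import Cfsg.Agent.S0027

set_option autoImplicit false
open scoped commutatorElement

namespace Cfsg.Agent.Lib.Helper1.BG12

open Cfsg Cfsg.Agent.Lib Cfsg.Agent.Lib.Helper18
open Cfsg.Agent.Lib.Helper11.BenderM Cfsg.Agent.Lib.Helper11.BenderN
  Cfsg.Agent.Lib.Helper11.BenderO Cfsg.Agent.Lib.Helper11.BenderE
  Cfsg.Agent.Lib.Helper11.BenderF Cfsg.Agent.Lib.Helper11.BenderL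
  Cfsg.Agent.Lib.Helper11.BenderS Cfsg.Agent.Lib.Helper11.MaxSubB

def Exc {G : Type*} [Group G] (H : Subgroup G) (p : ℕ) (A₀ A : Subgroup G) : Prop :=
  IsCoatom H ∧ p ∉ Cfsg.sigma H ∧ A ≤ H ∧ Cfsg.IsElementaryAbelian p A ∧ Nat.card A = p ^ 2 ∧
    A₀ ≤ A ∧ Nat.card A₀ = p ∧ Subgroup.normalizer (A₀ : Set G) ≤ H

def Hyp117 (G : Type*) [Group G] : Prop :=
  ∀ (H : Subgroup G) (p : ℕ) (A₀ A : Subgroup G), p.Prime → Exc H p A₀ A →
    H ≤ Subgroup.normalizer ((Cfsg.sigmaCore H ⊔ A : Subgroup G) : Set G)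

def Hyp114 (G : Type*) [Group G] : Prop :=
  ∀ (H M : Subgroup G) (p : ℕ) (A₀ A : Subgroup G), p.Prime → Exc H p A₀ A → IsCoatom M → A ≤ M →
    Cfsg.sigmaCore M ⊓ Cfsg.sigmaCore H ≠ ⊥ → M = H

section general

variable {Γ : Type*} [Group Γ]

theorem relIndex_sup_of_normalizes (A N : Subgroup Γ)
    (h : A ≤ Subgroup.normalizer (N : Set Γ)) : N.relIndex (A ⊔ N) = N.relIndex A := by
  have := Subgroup.normal_subgroupOf_of_le_normalizer h
  have := Subgroup.normal_subgroupOf_sup_of_le_normalizer h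
  exact (Nat.card_congr
    (QuotientGroup.quotientInfEquivProdNormalizerQuotient A N h).toEquiv).symm

theorem le_normalizer_inf_of_le {A X Y : Subgroup Γ}
    (hX : A ≤ Subgroup.normalizer (X : Set Γ)) (hY : A ≤ Subgroup.normalizer (Y : Set Γ)) :
    A ≤ Subgroup.normalizer ((X ⊓ Y : Subgroup Γ) : Set Γ) := by
  intro a ha
  rw [Subgroup.mem_normalizer_iff]
  intro z
  rw [Subgroup.mem_inf, Subgroup.mem_inf,
    ← Subgroup.mem_normalizer_iff.mp (hX ha) z, ← Subgroup.mem_normalizer_iff.mp (hY ha) z]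

theorem subgroupOf_commutator_eq_self {K X A : Subgroup Γ} (hXK : X ≤ K) (hAK : A ≤ K)
    (h : ⁅X, A⁆ = X) : ⁅X.subgroupOf K, A.subgroupOf K⁆ = X.subgroupOf K := by
  apply Subgroup.map_injective K.subtype_injective
  rw [Subgroup.map_commutator, Subgroup.map_subgroupOf_eq_of_le hXK,
    Subgroup.map_subgroupOf_eq_of_le hAK, h]

theorem eq_bot_of_commutator_eq_self [hnil : Group.IsNilpotent Γ] (X A : Subgroup Γ)
    (h : ⁅X, A⁆ = X) : X = ⊥ := by
  obtain ⟨n, hn⟩ := nilpotent_iff_lowerCentralSeries.mp hnil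
  have key : ∀ k, X ≤ (⊤ : Subgroup Γ).lowerCentralSeries k := by
    intro k
    induction k with
    | zero => simp
    | succ k ih =>
      rw [← h]
      exact Subgroup.commutator_mono ih le_top
  have := key n
  rw [hn] at this
  exact le_bot_iff.mp this

theorem le_ker_of_commutator_eq_self {Q : Type*} [Group Q] [Group.IsNilpotent Q] (ψ : Γ →* Q)
    (X A : Subgroup Γ) (h : ⁅X, A⁆ = X) : X ≤ ψ.ker := by
  have h1 : ⁅X.map ψ, A.map ψ⁆ = X.map ψ := by
    rw [← Subgroup.map_commutator, h]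
  have h2 := eq_bot_of_commutator_eq_self _ _ h1
  exact (Subgroup.map_eq_bot_iff X).mp h2

variable [Finite Γ]

theorem commutator_le_of_normal_sup (H N A K : Subgroup Γ) (p : ℕ) [hp : Fact p.Prime]
    (hNH : N ≤ H) (hHN : H ≤ Subgroup.normalizer (N : Set Γ)) (hAH : A ≤ H) (hAp : IsPGroup p A)
    (hL : H ≤ Subgroup.normalizer ((N ⊔ A : Subgroup Γ) : Set Γ)) (hKH : K ≤ H)
    (hKp : (Nat.card K).Coprime p) (hAK : A ≤ Subgroup.normalizer (K : Set Γ)) :
    ⁅K, A⁆ ≤ K ⊓ N := by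
  have h1 : ⁅K, A⁆ ≤ K ⊓ (N ⊔ A) := by
    rw [Subgroup.commutator_le]
    intro k hk a ha
    refine ⟨?_, ?_⟩
    · have h2 := (Subgroup.mem_normalizer_iff.mp (hAK ha) k⁻¹).mp (K.inv_mem hk)
      have e : ⁅k, a⁆ = k * (a * k⁻¹ * a⁻¹) := by
        rw [commutatorElement_def]; group
      rw [e]
      exact K.mul_mem hk h2
    · have h2 := (Subgroup.mem_normalizer_iff.mp (hL (hKH hk)) a).mp
        ((le_sup_right : A ≤ N ⊔ A) ha)
      rw [commutatorElement_def]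
      exact Subgroup.mul_mem _ h2 (Subgroup.inv_mem _ ((le_sup_right : A ≤ N ⊔ A) ha))
  have h2 : K ⊓ (N ⊔ A) ≤ N := by
    apply le_of_normal_coprime (N ⊔ A) N _ le_sup_left
      ((sup_le hNH hAH).trans hHN) inf_le_right
    have h3 : N.relIndex (N ⊔ A) ∣ Nat.card A := by
      rw [sup_comm, relIndex_sup_of_normalizes A N (hAH.trans hHN)]
      exact Subgroup.relIndex_dvd_card N A
    obtain ⟨k, hk⟩ := IsPGroup.iff_card.mp hAp
    rw [hk] at h3
    have h4 : (Nat.card ↥(K ⊓ (N ⊔ A))).Coprime p :=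
      Nat.Coprime.coprime_dvd_left (Subgroup.card_dvd_of_le inf_le_left) hKp
    exact Nat.Coprime.coprime_dvd_right h3 (h4.pow_right k)
  exact le_inf (h1.trans inf_le_left) (h1.trans h2)

end general

variable {G : Type*} [Group G] [Finite G]

theorem twelve_two_b (hG : Cfsg.IsMinSimpleOddOrder G) (M H : Subgroup G) (hM : IsCoatom M)
    (p : ℕ) [hp : Fact p.Prime] (hpσ : p ∈ Cfsg.sigma M) (X : Subgroup G) (hXp : IsPGroup p X)
    (hX1 : X ≠ ⊥) (hXM : X ≤ M) (hNH : Subgroup.normalizer (X : Set G) ≤ H) (g : G)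
    (hHg : H = conjSub g M) : H = M := by
  have hXH : X ≤ conjSub g M := hHg ▸ (Subgroup.le_normalizer.trans hNH)
  have h1 : conjSub g⁻¹ X ≤ M := by
    rw [conjSub_le_iff, inv_inv]
    exact hXH
  obtain ⟨m, hm, c, hc, hgmc⟩ := (sigma_fusion hG M hM p hpσ X hXp hX1 hXM).1 g⁻¹ h1
  have hg : g = c⁻¹ * m⁻¹ := by
    have : g = (g⁻¹)⁻¹ := (inv_inv g).symm
    rw [this, hgmc]; group
  have h2 : conjSub g M = conjSub c⁻¹ M := by
    rw [hg, ← conjSub_mul, conjSub_eq_of_mem_normalizer (Subgroup.le_normalizer (M.inv_mem hm))]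
  have hcH : c ∈ conjSub c⁻¹ M := by
    rw [← h2, ← hHg]
    exact hNH (Subgroup.centralizer_le_normalizer _ hc)
  rw [mem_conjSub] at hcH
  have hcM : c ∈ M := by
    have e : c⁻¹⁻¹ * c * c⁻¹ = c := by group
    rwa [e] at hcH
  rw [hHg, h2, conjSub_eq_of_mem_normalizer (Subgroup.le_normalizer (M.inv_mem hcM))]

theorem sigmaCore_primes (hG : Cfsg.IsMinSimpleOddOrder G) (M : Subgroup G) (hM : IsCoatom M)
    (q : ℕ) (hq : q.Prime) (hd : q ∣ Nat.card (Cfsg.sigmaCore M)) : q ∈ Cfsg.sigma M :=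
  (sigma_hall hG M hM).1.2.1 q hq hd

theorem alphaCore_primes (hG : Cfsg.IsMinSimpleOddOrder G) (M : Subgroup G) (hM : IsCoatom M)
    (q : ℕ) (hq : q.Prime) (hd : q ∣ Nat.card (Cfsg.alphaCore M)) : q ∈ Cfsg.alpha M :=
  (alpha_hall hG M hM).1.2.1 q hq hd

theorem exists_prime_dvd_of_ne_bot {X : Subgroup G} (hX : X ≠ ⊥) :
    ∃ q : ℕ, q.Prime ∧ q ∣ Nat.card X := by
  apply Nat.exists_prime_and_dvd
  intro h
  exact hX (Subgroup.card_eq_one.mp h)

theorem commutator_le_alphaCore (hG : Cfsg.IsMinSimpleOddOrder G) (H : Subgroup G)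
    (hH : IsCoatom H) (X A : Subgroup G) (hX : X ≤ Cfsg.sigmaCore H) (hA : A ≤ Cfsg.sigmaCore H)
    (h : ⁅X, A⁆ = X) : X ≤ Cfsg.alphaCore H := by
  have hXH : X ≤ H := hX.trans (sigmaCore_le H)
  have hAH : A ≤ H := hA.trans (sigmaCore_le H)
  have hσ := sigmaCore_le_commutator hG H hH
  have hnil := (alpha_hall hG H hH).2.2.2.2
  have hXL : X.subgroupOf H ≤ commutator ↥H := by
    intro x hx
    apply hσ
    have := hX (Subgroup.mem_subgroupOf.mp hx)
    unfold Cfsg.sigmaCore at this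
    obtain ⟨y, hy, hyx⟩ := this
    have : y = x := Subtype.ext hyx
    rwa [← this]
  have hAL : A.subgroupOf H ≤ commutator ↥H := by
    intro x hx
    apply hσ
    have := hA (Subgroup.mem_subgroupOf.mp hx)
    unfold Cfsg.sigmaCore at this
    obtain ⟨y, hy, hyx⟩ := this
    have : y = x := Subtype.ext hyx
    rwa [← this]
  have h1 := subgroupOf_commutator_eq_self hXH hAH h
  have h2 := subgroupOf_commutator_eq_self hXL hAL h1
  have h3 := le_ker_of_commutator_eq_self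
    ((QuotientGroup.mk' (Cfsg.piCore (Cfsg.alpha H) ↥H)).subgroupMap (commutator ↥H)) _ _ h2
  intro x hx
  have hxH : x ∈ H := hXH hx
  have hxL : (⟨x, hxH⟩ : ↥H) ∈ commutator ↥H := hXL (Subgroup.mem_subgroupOf.mpr hx)
  have h4 : (⟨⟨x, hxH⟩, hxL⟩ : ↥(commutator ↥H)) ∈
      (X.subgroupOf H).subgroupOf (commutator ↥H) := by
    rw [Subgroup.mem_subgroupOf, Subgroup.mem_subgroupOf]
    exact hx
  have h5 := h3 h4
  rw [MonoidHom.mem_ker] at h5
  have h6 : QuotientGroup.mk' (Cfsg.piCore (Cfsg.alpha H) ↥H) ⟨x, hxH⟩ = 1 := by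
    have := congrArg Subtype.val h5
    simpa using this
  rw [QuotientGroup.mk'_apply, QuotientGroup.eq_one_iff] at h6
  unfold Cfsg.alphaCore
  exact ⟨⟨x, hxH⟩, h6, rfl⟩

end Cfsg.Agent.Lib.Helper1.BG12
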