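import Mathlib
import Cfsg.Prelude.Def_OddOrderLocal
import Cfsg.Agent.Lib.Helper1.BG12.TwelveThree

set_option autoImplicit false
open scoped commutatorElement

namespace Cfsg.Agent.Lib.Helper1.BG12

open Cfsg Cfsg.Agent.Lib Cfsg.Agent.Lib.Helper18
open Cfsg.Agent.Lib.Helper11.BenderM Cfsg.Agent.Lib.Helper11.BenderN
  Cfsg.Agent.Lib.Helper11.BenderO Cfsg.Agent.Lib.Helper11.BenderE
  Cfsg.Agent.Lib.Helper11.BenderF Cfsg.Agent.Lib.Helper11.BenderL
  Cfsg.Agent.Lib.Helper11.BenderS Cfsg.Agent.Lib.Helper11.MaxSubB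

variable {G : Type*} [Group G] [Finite G]

theorem le_centralizer_of_commutator_eq_bot {X A : Subgroup G} (h : ⁅X, A⁆ = ⊥) :
    A ≤ Subgroup.centralizer (X : Set G) := by
  rw [Subgroup.commutator_eq_bot_iff_le_centralizer] at h
  exact Subgroup.le_centralizer_iff.mp h

theorem twelve_three (hG : Cfsg.IsMinSimpleOddOrder G) (h117 : Hyp117 G) (h114 : Hyp114 G)
    (M H : Subgroup G) (hM : IsCoatom M) (hH : IsCoatom H) (hne : H ≠ M)
    (p : ℕ) [hp : Fact p.Prime] (A A₀ : Subgroup G) (hAM : A ≤ M)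
    (hAe : Cfsg.IsElementaryAbelian p A) (hAc : Nat.card A = p ^ 2) (hA₀A : A₀ ≤ A)
    (hA₀c : Nat.card A₀ = p) (hNH : Subgroup.normalizer (A₀ : Set G) ≤ H) :
    (p ∉ Cfsg.sigma M → A ≤ Subgroup.centralizer ((Cfsg.sigmaCore M ⊓ H : Subgroup G) : Set G)) ∧
    (p ∉ Cfsg.alpha M → A ≤ Subgroup.centralizer ((Cfsg.alphaCore M ⊓ H : Subgroup G) : Set G)) := by
  have hAp : IsPGroup p A := BG10.elemAb_isPGroup hAe
  have hA₀p : IsPGroup p A₀ := hAp.to_le hA₀A
  have hA₀1 : A₀ ≠ ⊥ := by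
    rintro rfl
    rw [Subgroup.card_bot] at hA₀c
    exact hp.out.one_lt.ne hA₀c
  have hAH : A ≤ H := by
    refine le_trans ?_ hNH
    refine le_trans ?_ (Subgroup.centralizer_le_normalizer _)
    intro a ha
    rw [Subgroup.mem_centralizer_iff]
    intro b hb
    have := hAe.1
    exact setLike_mul_comm (hA₀A hb) ha
  have hL : H ≤ Subgroup.normalizer ((Cfsg.sigmaCore H ⊔ A : Subgroup G) : Set G) := by
    by_cases hpH : p ∈ Cfsg.sigma H
    · have : A ≤ Cfsg.sigmaCore H := pgroup_le_sigmaCore hG H hH p hpH A hAH hAp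
      rw [sup_eq_left.mpr this]
      exact le_normalizer_sigmaCore H
    · exact h117 H p A₀ A hp.out ⟨hH, hpH, hAH, hAe, hAc, hA₀A, hA₀c, hNH⟩
  have cAp : ∀ K : Subgroup G, K ≤ H → (Nat.card K).Coprime p →
      A ≤ Subgroup.normalizer (K : Set G) → ⁅K, A⁆ ≤ K ⊓ Cfsg.sigmaCore H := fun K hKH hKp hAK =>
    commutator_le_of_normal_sup H (Cfsg.sigmaCore H) A K p (sigmaCore_le H)
      (le_normalizer_sigmaCore H) hAH hAp hL hKH hKp hAK
  have hAσ : A ≤ Subgroup.normalizer ((Cfsg.sigmaCore M ⊓ H : Subgroup G) : Set G) :=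
    le_normalizer_inf_of_le (hAM.trans (le_normalizer_sigmaCore M))
      (hAH.trans Subgroup.le_normalizer)
  have hAα : A ≤ Subgroup.normalizer ((Cfsg.alphaCore M ⊓ H : Subgroup G) : Set G) :=
    le_normalizer_inf_of_le (hAM.trans (le_normalizer_alphaCore M))
      (hAH.trans Subgroup.le_normalizer)
  have hcopσ : p ∉ Cfsg.sigma M → (Nat.card ↥(Cfsg.sigmaCore M ⊓ H)).Coprime p := by
    intro hpσ
    apply Nat.Coprime.symm
    rw [Nat.Prime.coprime_iff_not_dvd hp.out]
    intro hd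
    exact hpσ (sigmaCore_primes hG M hM p hp.out
      (hd.trans (Subgroup.card_dvd_of_le inf_le_left)))
  have hcopα : p ∉ Cfsg.alpha M → (Nat.card ↥(Cfsg.alphaCore M ⊓ H)).Coprime p := by
    intro hpα
    apply Nat.Coprime.symm
    rw [Nat.Prime.coprime_iff_not_dvd hp.out]
    intro hd
    exact hpα (alphaCore_primes hG M hM p hp.out
      (hd.trans (Subgroup.card_dvd_of_le inf_le_left)))
  by_cases hpM : p ∈ Cfsg.sigma M
  · refine ⟨fun h => absurd hpM h, fun hpα => ?_⟩
    apply le_centralizer_of_commutator_eq_bot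
    by_contra hne1
    have h1 := cAp _ inf_le_right (hcopα hpα) hAα
    have h2 : Cfsg.alphaCore M ⊓ Cfsg.sigmaCore H ≠ ⊥ := by
      intro h
      apply hne1
      rw [← le_bot_iff, ← h]
      exact h1.trans (inf_le_inf_right _ inf_le_left)
    obtain ⟨q, hq, hqd⟩ := exists_prime_dvd_of_ne_bot h2
    have hqα := alphaCore_primes hG M hM q hq (hqd.trans (Subgroup.card_dvd_of_le inf_le_left))
    have hqσ := sigmaCore_primes hG H hH q hq (hqd.trans (Subgroup.card_dvd_of_le inf_le_right))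
    obtain ⟨g, hg⟩ := conj_of_alpha_sigma hG M H hM hH q hqα hqσ
    exact hne (twelve_two_b hG M H hM p hpM A₀ hA₀p hA₀1 (hA₀A.trans hAM) hNH g hg)
  · have key : ⁅Cfsg.sigmaCore M ⊓ H, A⁆ = ⊥ := by
      by_contra hne1
      have h1 := cAp _ inf_le_right (hcopσ hpM) hAσ
      by_cases hpH : p ∈ Cfsg.sigma H
      · have hAσH : A ≤ Cfsg.sigmaCore H := pgroup_le_sigmaCore hG H hH p hpH A hAH hAp
        have hsolv : Group.IsSolvable A := by
          have := hAp.isNilpotent
          infer_instance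
        have hcop : (Nat.card A).Coprime (Nat.card ↥(Cfsg.sigmaCore M ⊓ H)) := by
          rw [hAc]
          exact ((hcopσ hpM).symm).pow_left 2
        have h27 := Cfsg.Agent.S0027.result A (Cfsg.sigmaCore M ⊓ H) hAσ hcop (Or.inl hsolv)
        have h3 := commutator_le_alphaCore hG H hH _ A (h1.trans inf_le_right) hAσH h27
        have h4 : Cfsg.sigmaCore M ⊓ Cfsg.alphaCore H ≠ ⊥ := by
          intro h
          apply hne1
          rw [← le_bot_iff, ← h]
          exact le_inf (h1.trans (inf_le_left.trans inf_le_left)) h3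
        obtain ⟨q, hq, hqd⟩ := exists_prime_dvd_of_ne_bot h4
        have hqσ := sigmaCore_primes hG M hM q hq
          (hqd.trans (Subgroup.card_dvd_of_le inf_le_left))
        have hqα := alphaCore_primes hG H hH q hq
          (hqd.trans (Subgroup.card_dvd_of_le inf_le_right))
        obtain ⟨g, hg⟩ := conj_of_alpha_sigma hG H M hH hM q hqα hqσ
        apply hpM
        rw [hg]
        exact sigma_conjSub H p hpH g
      · have h2 : Cfsg.sigmaCore M ⊓ Cfsg.sigmaCore H ≠ ⊥ := by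
          intro h
          apply hne1
          rw [← le_bot_iff, ← h]
          exact h1.trans (inf_le_inf_right _ inf_le_left)
        have := h114 H M p A₀ A hp.out ⟨hH, hpH, hAH, hAe, hAc, hA₀A, hA₀c, hNH⟩ hM hAM h2
        exact hne this.symm
    have h1 := le_centralizer_of_commutator_eq_bot key
    refine ⟨fun _ => h1, fun _ => ?_⟩
    refine h1.trans (Subgroup.centralizer_le ?_)
    exact inf_le_inf_right _ (alpha_hall hG M hM).2.2.1

end Cfsg.Agent.Lib.Helper1.BG12
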