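import Mathlib
import Cfsg.Prelude.Def_OddOrderLocal
import Cfsg.Agent.Lib.Helper1.BG12.TwelveThreeMain
import Cfsg.Agent.Lib.Helper11.BenderQ
import Cfsg.Agent.S0058
import Cfsg.Agent.S1451

set_option autoImplicit false
open scoped commutatorElement

namespace Cfsg.Agent.Lib.Helper1.BG12

open Cfsg Cfsg.Agent.Lib Cfsg.Agent.Lib.Helper18
open Cfsg.Agent.Lib.Helper11.BenderM Cfsg.Agent.Lib.Helper11.BenderN
  Cfsg.Agent.Lib.Helper11.BenderO Cfsg.Agent.Lib.Helper11.BenderE
  Cfsg.Agent.Lib.Helper11.BenderF Cfsg.Agent.Lib.Helper11.BenderL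
  Cfsg.Agent.Lib.Helper11.BenderS Cfsg.Agent.Lib.Helper11.MaxSubB
  Cfsg.Agent.Lib.Helper11.MaxSubD

variable {G : Type*} [Group G] [Finite G]

theorem exists_other_coatom (M N : Subgroup G) (hN : N ≠ ⊤)
    (h : ¬ (N ≤ M ∧ ∀ L : Subgroup G, IsCoatom L → N ≤ L → L = M)) :
    ∃ H : Subgroup G, IsCoatom H ∧ H ≠ M ∧ N ≤ H := by
  by_cases hNM : N ≤ M
  · by_contra hcon
    push Not at hcon
    apply h
    refine ⟨hNM, fun L hL hNL => ?_⟩
    by_contra hne
    exact hcon L hL hne hNL
  · obtain ⟨H, hH, hNH⟩ := exists_coatom_ge N hN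
    refine ⟨H, hH, ?_, hNH⟩
    rintro rfl
    exact hNM hNH

theorem card_zpowers_of_elemAb {p : ℕ} [hp : Fact p.Prime] {A : Subgroup G}
    (hAe : Cfsg.IsElementaryAbelian p A) {a : G} (ha : a ∈ A) (ha1 : a ≠ 1) :
    Nat.card (Subgroup.zpowers a) = p := by
  rw [Nat.card_zpowers]
  have h1 : orderOf a ∣ p := orderOf_dvd_of_pow_eq_one (hAe.2 a ha)
  rcases (Nat.dvd_prime hp.out).mp h1 with h | h
  · exact absurd (orderOf_eq_one_iff.mp h) ha1
  · exact h

theorem exists_elemAb_sup {p : ℕ} {A Z : Subgroup G} (hA : Cfsg.IsElementaryAbelian p A)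
    (hZ : Cfsg.IsElementaryAbelian p Z) (hZA : Z ≤ Subgroup.centralizer (A : Set G)) :
    ∃ B : Subgroup G, Cfsg.IsElementaryAbelian p B ∧ A ≤ B ∧ Z ≤ B := by
  refine ⟨Subgroup.closure ((A : Set G) ∪ (Z : Set G)), ?_, ?_, ?_⟩
  · apply Helper5.elemAb_closure
    · rintro x (hx | hx) y (hy | hy)
      · have := hA.1
        exact setLike_mul_comm hx hy
      · exact (Subgroup.mem_centralizer_iff.mp (hZA hy) x hx)
      · exact (Subgroup.mem_centralizer_iff.mp (hZA hx) y hy).symm
      · have := hZ.1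
        exact setLike_mul_comm hx hy
    · rintro x (hx | hx)
      · exact hA.2 x hx
      · exact hZ.2 x hx
  · exact fun a ha => Subgroup.subset_closure (Or.inl ha)
  · exact fun a ha => Subgroup.subset_closure (Or.inr ha)

theorem sigmaCore_ne_bot (hG : Cfsg.IsMinSimpleOddOrder G) (M : Subgroup G) (hM : IsCoatom M) :
    Cfsg.sigmaCore M ≠ ⊥ := by
  have hMs : Group.IsSolvable ↥M := coatom_solvable hG M hM
  have hModd : Odd (Nat.card ↥M) := coatom_odd hG M
  by_cases hα : ∃ q, q ∈ Cfsg.alpha M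
  · obtain ⟨q, hq⟩ := hα
    have : Fact q.Prime := ⟨hq.1⟩
    have hqσ := alpha_sub_sigma hG M hM q hq
    obtain ⟨S, hS⟩ := exists_good_of_sigma M q hqσ
    have hS1 := good_ne_bot hS hqσ.2.1
    have := pgroup_le_sigmaCore hG M hM q hqσ S hS.1.le hS.1.isPGroup
    intro h
    rw [h] at this
    exact hS1 (le_bot_iff.mp this)
  · push Not at hα
    have hr : Cfsg.RankLE 2 ↥M := fun q hq => by
      by_contra h
      exact hα q ⟨hq, h⟩
    obtain ⟨-, -, h3⟩ := Cfsg.Agent.S1451.result (G := ↥M) hModd (Or.inl hr)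
    have hcard : Nat.card ↥M ≠ 1 := by
      intro h
      exact coatom_ne_bot hG M hM (Subgroup.card_eq_one.mp h)
    have hne : (Nat.card ↥M).primeFactors.Nonempty := by
      rw [Nat.nonempty_primeFactors]
      have := Nat.card_pos (α := ↥M)
      omega
    obtain ⟨r, hr_mem, hr_max⟩ := Finset.exists_max_image _ id hne
    have hrp : r.Prime := Nat.prime_of_mem_primeFactors hr_mem
    have hrd : r ∣ Nat.card ↥M := Nat.dvd_of_mem_primeFactors hr_mem
    obtain ⟨N, hNc, hNh⟩ := h3 (r - 1)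
    have : Fact r.Prime := ⟨hrp⟩
    have hNr : IsPGroup r N := by
      have hpos : Nat.card N ≠ 0 := Nat.card_pos.ne'
      have := Nat.eq_prime_pow_of_unique_prime_dvd (p := r) hpos (by
        intro d hd hdd
        have h1 := hNh.1 d hd hdd
        have h2 : d ∈ (Nat.card ↥M).primeFactors := by
          rw [Nat.mem_primeFactors]
          exact ⟨hd, hdd.trans (Subgroup.card_subgroup_dvd_card N), Nat.card_pos.ne'⟩
        have h3 := hr_max d h2
        have h4 : r - 1 < d := h1.2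
        simp only [id] at h3
        omega)
      exact IsPGroup.of_card this
    have hidx : ¬ r ∣ N.index := hNh.2 r hrp ⟨hrp, by have := hrp.two_le; omega⟩
    have hNn : N.Normal := Subgroup.normal_of_characteristic N
    have hN1 : N ≠ ⊥ := by
      rintro rfl
      apply hidx
      rw [Subgroup.index_bot]
      exact hrd
    obtain ⟨R, hRdef⟩ : ∃ R : Subgroup G, R = N.map M.subtype := ⟨_, rfl⟩
    have hRp : IsPGroup r R := by rw [hRdef]; exact hNr.map _
    have hR1 : R ≠ ⊥ := by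
      rw [hRdef]
      intro h
      exact hN1 ((Subgroup.map_eq_bot_iff_of_injective N M.subtype_injective).mp h)
    have hR2 : R ≠ ⊤ := pgroup_ne_top hG r R hRp
    have hMR : M ≤ Subgroup.normalizer (R : Set G) := by
      rw [hRdef]; exact map_normal_le_normalizer M N
    have hNR := normalizer_eq_of_coatom hG M hM R hR1 hR2 hMR
    have hrσ : r ∈ Cfsg.sigma M := by
      refine ⟨hrp, hrd, hNr.toSylow hidx, ?_⟩
      have : ((hNr.toSylow hidx : Sylow r ↥M) : Subgroup ↥M) = N := rfl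
      rw [this, ← hRdef, hNR]
    have hRM : R ≤ M := by rw [hRdef]; exact Subgroup.map_subtype_le _
    have := pgroup_le_sigmaCore hG M hM r hrσ R hRM hRp
    intro h
    rw [h] at this
    exact hR1 (le_bot_iff.mp this)

theorem nilpotent_of_alphaCore_bot (hG : Cfsg.IsMinSimpleOddOrder G) (M : Subgroup G)
    (hM : IsCoatom M) (h : Cfsg.alphaCore M = ⊥) :
    Group.IsNilpotent ↥⁅M, M⁆ ∧ Group.IsNilpotent ↥(Cfsg.sigmaCore M) := by
  have hN : Cfsg.piCore (Cfsg.alpha M) ↥M = ⊥ := by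
    unfold Cfsg.alphaCore at h
    exact (Subgroup.map_eq_bot_iff_of_injective _ M.subtype_injective).mp h
  have hinj : Function.Injective (QuotientGroup.mk' (Cfsg.piCore (Cfsg.alpha M) ↥M)) := by
    rw [← MonoidHom.ker_eq_bot_iff, QuotientGroup.ker_mk', hN]
  have hnil1 := (alpha_hall hG M hM).2.2.2.2
  have hnil2 : Group.IsNilpotent ↥(commutator ↥M) :=
    Group.nilpotent_of_mulEquiv (Subgroup.equivMapOfInjective _ _ hinj).symm
  constructor
  · rw [← Subgroup.map_subtype_commutator]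
    exact Group.nilpotent_of_mulEquiv
      (Subgroup.equivMapOfInjective _ _ M.subtype_injective)
  · have hle := sigmaCore_le_commutator hG M hM
    have h1 : Group.IsNilpotent
        ↥((Cfsg.piCore (Cfsg.sigma M) ↥M).subgroupOf (commutator ↥M)) := Subgroup.isNilpotent _
    have h2 : Group.IsNilpotent ↥(Cfsg.piCore (Cfsg.sigma M) ↥M) :=
      Group.nilpotent_of_mulEquiv (Subgroup.subgroupOfEquivOfLe hle)
    unfold Cfsg.sigmaCore
    exact Group.nilpotent_of_mulEquiv
      (Subgroup.equivMapOfInjective _ _ M.subtype_injective)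

theorem centralizes_of_pointwise (p : ℕ) [hp : Fact p.Prime] (A K : Subgroup G)
    (hAe : Cfsg.IsElementaryAbelian p A) (hAc : Nat.card A = p ^ 2)
    (hAK : A ≤ Subgroup.normalizer (K : Set G)) (hcop : (Nat.card K).Coprime p)
    (h : ∀ a ∈ A, a ≠ 1 → K ⊓ Subgroup.centralizer {a} ≤ Subgroup.centralizer (A : Set G)) :
    K ≤ Subgroup.centralizer (A : Set G) := by
  have := hAe.1
  have hnc : ¬ IsCyclic A := not_cyclic_of_elemAb p A hAe hAc.ge
  have hcop' : (Nat.card A).Coprime (Nat.card K) := by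
    rw [hAc]
    exact (hcop.symm).pow_left 2
  have h58 := Cfsg.Agent.S0058.result A K hnc hAK hcop'
  rw [← h58]
  apply iSup₂_le
  intro a ha
  exact h a ha.1 ha.2

end Cfsg.Agent.Lib.Helper1.BG12
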