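import Mathlib
import Cfsg.Prelude.Def_OddOrderLocal
import Cfsg.Agent.Lib.Helper1.BG12.TwelveFourPre
import Cfsg.Agent.Lib.Helper1.BG10.TenFive
import Cfsg.Agent.Lib.Helper1.BG10.TenNine
import Cfsg.Agent.S1406

set_option autoImplicit false
open scoped commutatorElement

namespace Cfsg.Agent.Lib.Helper1.BG12

open Cfsg Cfsg.Agent.Lib Cfsg.Agent.Lib.Helper18
open Cfsg.Agent.Lib.Helper11.BenderM Cfsg.Agent.Lib.Helper11.BenderN
  Cfsg.Agent.Lib.Helper11.BenderO Cfsg.Agent.Lib.Helper11.BenderE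
  Cfsg.Agent.Lib.Helper11.BenderF Cfsg.Agent.Lib.Helper11.BenderL
  Cfsg.Agent.Lib.Helper11.BenderS Cfsg.Agent.Lib.Helper11.MaxSubB
  Cfsg.Agent.Lib.Helper11.MaxSubD Cfsg.Agent.Lib.Helper11.BenderQ

universe u

variable {G : Type u} [Group G] [Finite G]

structure NonUniq (M : Subgroup G) (p : ℕ) (A : Subgroup G) : Prop where
  hAM : A ≤ M
  hAe : Cfsg.IsElementaryAbelian p A
  hAc : Nat.card A = p ^ 2
  hyp : ∀ A₀ : Subgroup G, A₀ ≤ A → Nat.card A₀ = p →
    ¬ (Subgroup.normalizer (A₀ : Set G) ≤ M ∧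
      ∀ L : Subgroup G, IsCoatom L → Subgroup.normalizer (A₀ : Set G) ≤ L → L = M)

variable {M : Subgroup G} {p : ℕ} [hp : Fact p.Prime] {A : Subgroup G}

theorem NonUniq.ne_bot (h : NonUniq M p A) : A ≠ ⊥ := by
  intro hA
  have := h.hAc
  rw [hA, Subgroup.card_bot] at this
  have h2 : 1 < p ^ 2 := Nat.one_lt_pow (by norm_num) hp.out.one_lt
  omega

theorem NonUniq.isPGroup (h : NonUniq M p A) : IsPGroup p A := BG10.elemAb_isPGroup h.hAe

theorem NonUniq.other (hG : Cfsg.IsMinSimpleOddOrder G) (h : NonUniq M p A)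
    (A₀ : Subgroup G) (hA₀A : A₀ ≤ A) (hA₀c : Nat.card A₀ = p) :
    ∃ H : Subgroup G, IsCoatom H ∧ H ≠ M ∧ Subgroup.normalizer (A₀ : Set G) ≤ H := by
  apply exists_other_coatom M _ _ (h.hyp A₀ hA₀A hA₀c)
  apply BG10.normalizer_ne_top hG
  · rintro rfl
    rw [Subgroup.card_bot] at hA₀c
    exact hp.out.one_lt.ne hA₀c
  · exact pgroup_ne_top hG p A₀ (h.isPGroup.to_le hA₀A)

theorem NonUniq.exists_ne_one (h : NonUniq M p A) : ∃ a ∈ A, a ≠ 1 := by
  obtain ⟨⟨a, ha⟩, ha1⟩ := Subgroup.ne_bot_iff_exists_ne_one.mp h.ne_bot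
  exact ⟨a, ha, fun h1 => ha1 (Subtype.ext h1)⟩

theorem NonUniq.le_centralizer (h : NonUniq M p A) : A ≤ Subgroup.centralizer (A : Set G) := by
  intro a ha
  rw [Subgroup.mem_centralizer_iff]
  intro b hb
  have := h.hAe.1
  exact setLike_mul_comm hb ha

theorem NonUniq.not_unique_of_ge (hG : Cfsg.IsMinSimpleOddOrder G) (hM : IsCoatom M)
    (h : NonUniq M p A) (X : Subgroup G) (hXM : X ≤ M)
    (hXC : X ≤ Subgroup.centralizer (A : Set G)) : ¬ Cfsg.InUniqueMaximal X := by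
  rintro ⟨M', ⟨hM', hXM'⟩, huniq⟩
  have e : M = M' := huniq M ⟨hM, hXM⟩
  obtain ⟨a, ha, ha1⟩ := h.exists_ne_one
  have hzA : Subgroup.zpowers a ≤ A := by rw [Subgroup.zpowers_le]; exact ha
  have hzc := card_zpowers_of_elemAb h.hAe ha ha1
  apply h.hyp _ hzA hzc
  have hN1 : Subgroup.normalizer ((Subgroup.zpowers a : Subgroup G) : Set G) ≠ ⊤ := by
    apply BG10.normalizer_ne_top hG
    · intro hb
      rw [hb, Subgroup.card_bot] at hzc
      exact hp.out.one_lt.ne hzc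
    · exact pgroup_ne_top hG p _ (h.isPGroup.to_le hzA)
  have hXN : X ≤ Subgroup.normalizer ((Subgroup.zpowers a : Subgroup G) : Set G) := by
    refine le_trans ?_ (Subgroup.centralizer_le_normalizer _)
    exact hXC.trans (Subgroup.centralizer_le hzA)
  refine ⟨?_, fun L hL hNL => ?_⟩
  · exact le_of_unique hM hXM (fun L hL hXL => by rw [huniq L ⟨hL, hXL⟩, ← e]) _ hN1 hXN
  · rw [huniq L ⟨hL, hXN.trans hNL⟩, ← e]

theorem NonUniq.not_unique (hG : Cfsg.IsMinSimpleOddOrder G) (hM : IsCoatom M)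
    (h : NonUniq M p A) : ¬ Cfsg.InUniqueMaximal A :=
  h.not_unique_of_ge hG hM A h.hAM h.le_centralizer

theorem NonUniq.hmax (hG : Cfsg.IsMinSimpleOddOrder G) (hM : IsCoatom M)
    (h : NonUniq M p A) (B : Subgroup G) (hB : Cfsg.IsElementaryAbelian p B) (hAB : A ≤ B) :
    B = A := by
  by_contra hne
  exact h.not_unique hG hM (BG10.elemAb_sq_unique_of_lt hG p A B h.hAe h.hAc hB hAB hne)

theorem NonUniq.ne_top (hG : Cfsg.IsMinSimpleOddOrder G) (h : NonUniq M p A) : A ≠ ⊤ :=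
  pgroup_ne_top hG p A h.isPGroup

theorem NonUniq.rank (hG : Cfsg.IsMinSimpleOddOrder G) (hM : IsCoatom M)
    (h : NonUniq M p A) : Cfsg.RankLE 2 ↥(Subgroup.centralizer (A : Set G)) := by
  by_contra hr
  apply h.not_unique hG hM
  exact uniqueness_theorem hG A (h.ne_top hG) (BG10.not_rankLE_one_of_sq h.hAe h.hAc.ge)
    (Or.inr hr)

theorem NonUniq.le_of_central (hG : Cfsg.IsMinSimpleOddOrder G) (hM : IsCoatom M)
    (h : NonUniq M p A) (Z : Subgroup G) (hZ : Cfsg.IsElementaryAbelian p Z)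
    (hZA : Z ≤ Subgroup.centralizer (A : Set G)) : Z ≤ A := by
  obtain ⟨B, hB, hAB, hZB⟩ := exists_elemAb_sup h.hAe hZ hZA
  rw [h.hmax hG hM B hB hAB] at hZB
  exact hZB

theorem NonUniq.not_alpha (hG : Cfsg.IsMinSimpleOddOrder G) (hM : IsCoatom M)
    (h : NonUniq M p A) : p ∉ Cfsg.alpha M := by
  intro hpα
  have hpσ := alpha_sub_sigma hG M hM p hpα
  obtain ⟨S₀, hS₀⟩ := exists_good_of_sigma M p hpσ
  obtain ⟨S, hS, hAS⟩ := exists_good_ge hS₀ A h.hAM h.isPGroup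
  obtain ⟨A₁, hA₁M, hA₁e, hA₁3⟩ :=
    Cfsg.Agent.Lib.Helper11.BenderF.exists_elemAb_of_not_pRankLE p M hpα.2
  obtain ⟨y, hy, hle⟩ := hS.1.exists_conj_le hA₁M (BG10.elemAb_isPGroup hA₁e)
  have hA₂e := elemAb_conjSub p y hA₁e
  have hA₂3 : p ^ 3 ≤ Nat.card (conjSub y A₁) := by rw [card_conjSub]; exact hA₁3
  have hSr : ¬ Cfsg.PRankLE p 2 ↥S :=
    Cfsg.Agent.Lib.Helper11.BenderB.not_pRankLE_of_le p _ _ hle hA₂e hA₂3
  have hS1 : S ≠ ⊥ := by
    intro hb
    rw [hb] at hAS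
    exact h.ne_bot (le_bot_iff.mp hAS)
  have hStop : S ≠ ⊤ := pgroup_ne_top hG p S hS.1.isPGroup
  have hZ1 := omZ_ne_bot p S hS.1.isPGroup hS1
  have hZe := omZ_elemAb p S
  have hZcS : omZ p S ≤ Subgroup.centralizer (S : Set G) := fun y hy => (mem_omZ.mp hy).2.1
  have hZA : omZ p S ≤ A :=
    h.le_of_central hG hM _ hZe (hZcS.trans (Subgroup.centralizer_le hAS))
  by_cases hZeq : omZ p S = A
  · have hSC : S ≤ Subgroup.centralizer (A : Set G) := by
      rw [← hZeq]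
      exact Subgroup.le_centralizer_iff.mp hZcS
    have h1 := BG10.pRankLE_card_le (h.rank hG hM p hp.out) (hle.trans hSC) hA₂e
    have := Nat.pow_lt_pow_right hp.out.one_lt (show 2 < 3 by norm_num)
    omega
  · have hZc : Nat.card (omZ p S) = p := by
      have hd : Nat.card (omZ p S) ∣ p ^ 2 := by
        rw [← h.hAc]; exact Subgroup.card_dvd_of_le hZA
      obtain ⟨k, hk, hkc⟩ := (Nat.dvd_prime_pow hp.out).mp hd
      have hk0 : k ≠ 0 := by
        rintro rfl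
        rw [pow_zero] at hkc
        exact hZ1 (Subgroup.card_eq_one.mp hkc)
      have hk2 : k ≠ 2 := by
        rintro rfl
        apply hZeq
        exact Subgroup.eq_of_le_of_card_ge hZA (by rw [hkc, h.hAc])
      have : k = 1 := by omega
      rw [hkc, this, pow_one]
    apply h.hyp _ hZA hZc
    have hSu := rank3_unique hG S hStop (fun hr => hSr (hr p hp.out))
    obtain ⟨M', ⟨hM', hSM'⟩, huniq⟩ := hSu
    have e : M = M' := huniq M ⟨hM, hS.1.le⟩
    have hSN : S ≤ Subgroup.normalizer ((omZ p S : Subgroup G) : Set G) :=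
      Subgroup.le_normalizer.trans (normalizer_le_normalizer_omZ p S)
    have hN1 : Subgroup.normalizer ((omZ p S : Subgroup G) : Set G) ≠ ⊤ :=
      BG10.normalizer_ne_top hG hZ1 (pgroup_ne_top hG p _ (hS.1.isPGroup.to_le (omZ_le p S)))
    refine ⟨?_, fun L hL hNL => ?_⟩
    · exact le_of_unique hM hS.1.le (fun L hL hXL => by rw [huniq L ⟨hL, hXL⟩, ← e]) _ hN1 hSN
    · rw [huniq L ⟨hL, hSN.trans hNL⟩, ← e]

end Cfsg.Agent.Lib.Helper1.BG12
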