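import Mathlib
import Cfsg.Prelude.Def_OddOrderLocal
import Cfsg.Agent.Lib.Helper1.BG12.TwelveFour

set_option autoImplicit false
open scoped commutatorElement

namespace Cfsg.Agent.Lib.Helper1.BG12

open Cfsg Cfsg.Agent.Lib Cfsg.Agent.Lib.Helper18
open Cfsg.Agent.Lib.Helper11.BenderM Cfsg.Agent.Lib.Helper11.BenderN
  Cfsg.Agent.Lib.Helper11.BenderO Cfsg.Agent.Lib.Helper11.BenderE
  Cfsg.Agent.Lib.Helper11.BenderF Cfsg.Agent.Lib.Helper11.BenderL
  Cfsg.Agent.Lib.Helper11.BenderS Cfsg.Agent.Lib.Helper11.MaxSubB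
  Cfsg.Agent.Lib.Helper11.MaxSubD Cfsg.Agent.Lib.Helper11.BenderQ

universe u

variable {G : Type u} [Group G] [Finite G]

omit [Finite G] in
theorem centralizer_singleton_le_normalizer_zpowers (a : G) :
    Subgroup.centralizer ({a} : Set G) ≤
      Subgroup.normalizer ((Subgroup.zpowers a : Subgroup G) : Set G) := by
  intro g hg
  apply Subgroup.centralizer_le_normalizer
  rw [Subgroup.mem_centralizer_iff]
  intro z hz
  obtain ⟨k, rfl⟩ := Subgroup.mem_zpowers_iff.mp hz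
  have h1 : a * g = g * a := Subgroup.mem_centralizer_iff.mp hg a rfl
  exact ((show Commute a g from h1).zpow_left k)

variable {M : Subgroup G} {p : ℕ} [hp : Fact p.Prime] {A : Subgroup G}

theorem NonUniq.pointwise (hG : Cfsg.IsMinSimpleOddOrder G) (h117 : Hyp117 G) (h114 : Hyp114 G)
    (hM : IsCoatom M) (h : NonUniq M p A) (a : G) (ha : a ∈ A) (ha1 : a ≠ 1) :
    (p ∉ Cfsg.sigma M → Cfsg.sigmaCore M ⊓ Subgroup.centralizer {a} ≤
      Subgroup.centralizer (A : Set G)) ∧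
    (p ∉ Cfsg.alpha M → Cfsg.alphaCore M ⊓ Subgroup.centralizer {a} ≤
      Subgroup.centralizer (A : Set G)) := by
  have hzA : Subgroup.zpowers a ≤ A := by rw [Subgroup.zpowers_le]; exact ha
  have hzc := card_zpowers_of_elemAb h.hAe ha ha1
  obtain ⟨H, hH, hne, hNH⟩ := h.other hG _ hzA hzc
  have h3 := twelve_three hG h117 h114 M H hM hH hne p A _ h.hAM h.hAe h.hAc hzA hzc hNH
  have hCH : Subgroup.centralizer ({a} : Set G) ≤ H :=
    (centralizer_singleton_le_normalizer_zpowers a).trans hNH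
  constructor
  · intro hpσ
    exact (inf_le_inf_left _ hCH).trans (Subgroup.le_centralizer_iff.mp (h3.1 hpσ))
  · intro hpα
    exact (inf_le_inf_left _ hCH).trans (Subgroup.le_centralizer_iff.mp (h3.2 hpα))

theorem NonUniq.alphaCore_le (hG : Cfsg.IsMinSimpleOddOrder G) (h117 : Hyp117 G)
    (h114 : Hyp114 G) (hM : IsCoatom M) (h : NonUniq M p A) :
    Cfsg.alphaCore M ≤ Subgroup.centralizer (A : Set G) := by
  have hpα := h.not_alpha hG hM
  apply centralizes_of_pointwise p A _ h.hAe h.hAc (h.hAM.trans (le_normalizer_alphaCore M))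
  · apply Nat.Coprime.symm
    rw [Nat.Prime.coprime_iff_not_dvd hp.out]
    intro hd
    exact hpα (alphaCore_primes hG M hM p hp.out hd)
  · intro a ha ha1
    exact (h.pointwise hG h117 h114 hM a ha ha1).2 hpα

theorem NonUniq.sigmaCore_le (hG : Cfsg.IsMinSimpleOddOrder G) (h117 : Hyp117 G)
    (h114 : Hyp114 G) (hM : IsCoatom M) (h : NonUniq M p A) (hpσ : p ∉ Cfsg.sigma M) :
    Cfsg.sigmaCore M ≤ Subgroup.centralizer (A : Set G) := by
  apply centralizes_of_pointwise p A _ h.hAe h.hAc (h.hAM.trans (le_normalizer_sigmaCore M))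
  · apply Nat.Coprime.symm
    rw [Nat.Prime.coprime_iff_not_dvd hp.out]
    intro hd
    exact hpσ (sigmaCore_primes hG M hM p hp.out hd)
  · intro a ha ha1
    exact (h.pointwise hG h117 h114 hM a ha ha1).1 hpσ

theorem NonUniq.alphaCore_bot (hG : Cfsg.IsMinSimpleOddOrder G) (h117 : Hyp117 G)
    (h114 : Hyp114 G) (hM : IsCoatom M) (h : NonUniq M p A) : Cfsg.alphaCore M = ⊥ := by
  by_contra hne
  have hpα := h.not_alpha hG hM
  have hle := h.alphaCore_le hG h117 h114 hM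
  apply h.not_unique_of_ge hG hM (M ⊓ Subgroup.centralizer (A : Set G)) inf_le_left inf_le_right
  apply Cfsg.Agent.S1406.result hG M hM A h.hAM
  · intro r hr hrd
    rw [h.hAc] at hrd
    have := (Nat.prime_dvd_prime_iff_eq hr hp.out).mp (hr.dvd_of_dvd_pow hrd)
    rw [this]
    exact hpα
  · rw [inf_eq_left.mpr hle]
    obtain ⟨q, hq, hqd⟩ := exists_prime_dvd_of_ne_bot hne
    have hqα := alphaCore_primes hG M hM q hq hqd
    have : Fact q.Prime := ⟨hq⟩
    obtain ⟨A₁, hA₁M, hA₁e, hA₁3⟩ :=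
      Cfsg.Agent.Lib.Helper11.BenderF.exists_elemAb_of_not_pRankLE q M hqα.2
    have hA₁α := pgroup_le_alphaCore hG M hM q hqα A₁ hA₁M (BG10.elemAb_isPGroup hA₁e)
    intro hr
    have h1 := BG10.pRankLE_card_le (hr q hq) hA₁α hA₁e
    have := Nat.pow_lt_pow_right hq.one_lt (show 1 < 3 by norm_num)
    omega

theorem NonUniq.mem_sigma (hG : Cfsg.IsMinSimpleOddOrder G)
    (h36 : ∀ M : Subgroup G, IsCoatom M → Thm36 ↥M) (h117 : Hyp117 G)
    (h114 : Hyp114 G) (hM : IsCoatom M) (h : NonUniq M p A) : p ∈ Cfsg.sigma M := by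
  by_contra hpσ
  have hα := h.alphaCore_bot hG h117 h114 hM
  obtain ⟨hnilM, -⟩ := nilpotent_of_alphaCore_bot hG M hM hα
  have hle := h.sigmaCore_le hG h117 h114 hM hpσ
  obtain ⟨q, hq, hqd⟩ := exists_prime_dvd_of_ne_bot (sigmaCore_ne_bot hG M hM)
  have hqσ := sigmaCore_primes hG M hM q hq hqd
  have : Fact q.Prime := ⟨hq⟩
  have hqp : q ≠ p := by
    rintro rfl
    exact hpσ hqσ
  obtain ⟨Q, hQ⟩ := exists_good_of_sigma M q hqσ
  have hQ1 := good_ne_bot hQ hqσ.2.1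
  have hQσ := pgroup_le_sigmaCore hG M hM q hqσ Q hQ.1.le hQ.1.isPGroup
  have hQC : Q ≤ Subgroup.centralizer (A : Set G) := hQσ.trans hle
  have hAQ : A ≤ Subgroup.normalizer (Q : Set G) :=
    (Subgroup.le_centralizer_iff.mp hQC).trans (Subgroup.centralizer_le_normalizer _)
  have hQmax : Q ∈ Cfsg.maxInvSubgroups ⊤ A {q} :=
    (Helper11.mem_maxInvSubgroups_iff A q Q).mpr
      (Helper11.BenderI.maxInv_of_sylow A q Q hQ.2.2 hAQ)
  have hqC : q ∣ Nat.card (Subgroup.centralizer (A : Set G)) := by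
    obtain ⟨k, hk⟩ := IsPGroup.iff_card.mp hQ.1.isPGroup
    have hk0 : k ≠ 0 := by
      rintro rfl
      rw [pow_zero] at hk
      exact hQ1 (Subgroup.card_eq_one.mp hk)
    have h1 : q ∣ Nat.card Q := by rw [hk]; exact dvd_pow_self q hk0
    exact h1.trans (Subgroup.card_dvd_of_le hQC)
  obtain ⟨P, hAP, -, hPd⟩ := BG10.ten_nine hG h36 p A h.hAe h.hAc (h.hmax hG hM) q hq hqp hqC
    Q hQmax
  have hPM' : (P : Subgroup G) ≤ ⁅M, M⁆ :=
    hPd.trans (Subgroup.commutator_mono hQ.2.1 hQ.2.1)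
  have hM'M : ⁅M, M⁆ ≤ M := Subgroup.commutator_le_self M
  have hPS : IsSylowIn p (P : Subgroup G) ⁅M, M⁆ := isSylowIn_of_sylow_le P hPM'
  have hMN : M ≤ Subgroup.normalizer ((⁅M, M⁆ : Subgroup G) : Set G) := by
    intro m hm
    apply mem_normalizer_of_conjSub_le
    have e : conjSub m ⁅M, M⁆ = ⁅conjSub m M, conjSub m M⁆ := by
      unfold conjSub
      exact Subgroup.map_commutator _ _ _
    rw [e, conjSub_eq_of_mem_normalizer (Subgroup.le_normalizer hm)]
  have hMP := sylow_normal_of_nilpotent _ (P : Subgroup G) p hnilM hPS M hMN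
  have hP1 : (P : Subgroup G) ≠ ⊥ := by
    intro hb
    rw [hb] at hAP
    exact h.ne_bot (le_bot_iff.mp hAP)
  have hNP := normalizer_eq_of_coatom hG M hM (P : Subgroup G) hP1
    (pgroup_ne_top hG p _ P.isPGroup') hMP
  have hPSM : IsSylowIn p (P : Subgroup G) M := isSylowIn_of_sylow_le P (hPM'.trans hM'M)
  exact hpσ (sigma_of_good M p _ (good_of_sigma M p _ hPSM hNP.le) hP1)

theorem NonUniq.centralizer_le (hG : Cfsg.IsMinSimpleOddOrder G)
    (h36 : ∀ M : Subgroup G, IsCoatom M → Thm36 ↥M) (h117 : Hyp117 G)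
    (h114 : Hyp114 G) (hM : IsCoatom M) (h : NonUniq M p A) :
    Subgroup.centralizer (A : Set G) ≤ M := by
  have hpσ := h.mem_sigma hG h36 h117 h114 hM
  have hα := h.alphaCore_bot hG h117 h114 hM
  obtain ⟨-, hnil⟩ := nilpotent_of_alphaCore_bot hG M hM hα
  obtain ⟨S₀, hS₀⟩ := exists_good_of_sigma M p hpσ
  obtain ⟨S, hS, hAS⟩ := exists_good_ge hS₀ A h.hAM h.isPGroup
  have hS1 : S ≠ ⊥ := by
    intro hb
    rw [hb] at hAS
    exact h.ne_bot (le_bot_iff.mp hAS)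
  have hSσ := pgroup_le_sigmaCore hG M hM p hpσ S hS.1.le hS.1.isPGroup
  have hSin : IsSylowIn p S (Cfsg.sigmaCore M) := hS.1.of_le hSσ (BG12.sigmaCore_le M)
  have hMS : M ≤ Subgroup.normalizer (S : Set G) :=
    sylow_normal_of_nilpotent _ S p hnil hSin M (le_normalizer_sigmaCore M)
  have hZ1 := omZ_ne_bot p S hS.1.isPGroup hS1
  have hZe := omZ_elemAb p S
  have hZcS : omZ p S ≤ Subgroup.centralizer (S : Set G) := fun y hy => (mem_omZ.mp hy).2.1
  have hZA : omZ p S ≤ A :=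
    h.le_of_central hG hM _ hZe (hZcS.trans (Subgroup.centralizer_le hAS))
  have hMZ : M ≤ Subgroup.normalizer ((omZ p S : Subgroup G) : Set G) :=
    hMS.trans (normalizer_le_normalizer_omZ p S)
  have hNZ := normalizer_eq_of_coatom hG M hM _ hZ1
    (pgroup_ne_top hG p _ (hS.1.isPGroup.to_le (omZ_le p S))) hMZ
  have hZeq : omZ p S = A := by
    by_contra hZne
    have hZc : Nat.card (omZ p S) = p := by
      have hd : Nat.card (omZ p S) ∣ p ^ 2 := by
        rw [← h.hAc]; exact Subgroup.card_dvd_of_le hZA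
      obtain ⟨k, hk, hkc⟩ := (Nat.dvd_prime_pow hp.out).mp hd
      have hk0 : k ≠ 0 := by
        rintro rfl
        rw [pow_zero] at hkc
        exact hZ1 (Subgroup.card_eq_one.mp hkc)
      have hk2 : k ≠ 2 := by
        rintro rfl
        apply hZne
        exact Subgroup.eq_of_le_of_card_ge hZA (by rw [hkc, h.hAc])
      have : k = 1 := by omega
      rw [hkc, this, pow_one]
    apply h.hyp _ hZA hZc
    rw [hNZ]
    exact ⟨le_rfl, fun L hL hML => (hM.le_iff_eq hL.1).mp hML⟩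
  rw [← hZeq]
  exact (Subgroup.centralizer_le_normalizer _).trans hNZ.le

theorem twelve_four (hG : Cfsg.IsMinSimpleOddOrder G)
    (h36 : ∀ M : Subgroup G, IsCoatom M → Thm36 ↥M) (h117 : Hyp117 G) (h114 : Hyp114 G)
    (M : Subgroup G) (hM : IsCoatom M) (p : ℕ) [Fact p.Prime] (A : Subgroup G)
    (hA : (A ≤ M ∧ Cfsg.IsElementaryAbelian p A ∧ Nat.card A = p ^ 2)) :
    Subgroup.centralizer (A : Set G) ≤ M ∧
      ((∀ A₀ : Subgroup G, A₀ ≤ A → Nat.card A₀ = p →
          ¬ (Subgroup.normalizer (A₀ : Set G) ≤ M ∧ ∀ L : Subgroup G, IsCoatom L →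
            Subgroup.normalizer (A₀ : Set G) ≤ L → L = M)) →
        p ∈ Cfsg.sigma M ∧ Cfsg.alphaCore M = ⊥ ∧ Group.IsNilpotent (Cfsg.sigmaCore M)) := by
  have key : ∀ h : NonUniq M p A, p ∈ Cfsg.sigma M ∧ Cfsg.alphaCore M = ⊥ ∧
      Group.IsNilpotent (Cfsg.sigmaCore M) := fun h =>
    ⟨h.mem_sigma hG h36 h117 h114 hM, h.alphaCore_bot hG h117 h114 hM,
      (nilpotent_of_alphaCore_bot hG M hM (h.alphaCore_bot hG h117 h114 hM)).2⟩
  refine ⟨?_, fun hyp => key ⟨hA.1, hA.2.1, hA.2.2, hyp⟩⟩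
  by_cases hyp : ∀ A₀ : Subgroup G, A₀ ≤ A → Nat.card A₀ = p →
      ¬ (Subgroup.normalizer (A₀ : Set G) ≤ M ∧ ∀ L : Subgroup G, IsCoatom L →
        Subgroup.normalizer (A₀ : Set G) ≤ L → L = M)
  · exact NonUniq.centralizer_le hG h36 h117 h114 hM ⟨hA.1, hA.2.1, hA.2.2, hyp⟩
  · push Not at hyp
    obtain ⟨A₀, hA₀A, -, hN, -⟩ := hyp
    refine le_trans ?_ hN
    exact (Subgroup.centralizer_le hA₀A).trans (Subgroup.centralizer_le_normalizer _)

end Cfsg.Agent.Lib.Helper1.BG12
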