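import Mathlib
import Cfsg.Agent.Lib.Helper1.BG12.HallNilp
import Cfsg.Agent.Lib.Helper1.BG10.TenSix

set_option autoImplicit false

namespace Cfsg.Agent.Lib.Helper1.BG12

open Cfsg Cfsg.Agent.Lib

variable {Γ : Type*} [Group Γ] [Finite Γ]

theorem cyclic_of_rank_one (p : ℕ) [hp : Fact p.Prime] (hp2 : p ≠ 2) (S : Subgroup Γ)
    (hS : IsPGroup p S) (hr : Cfsg.PRankLE p 1 Γ) : IsCyclic S := by
  by_contra hnc
  obtain ⟨Z, _, _, hZe, hZc⟩ := Helper11.BenderF.exists_normal_sq p hp2 S hS hnc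
  have := hr Z hZe.1 hZe.2
  rw [hZc] at this
  have : p ^ 1 < p ^ 2 := Nat.pow_lt_pow_right hp.out.one_lt (by norm_num)
  omega

theorem isZGroup_of_rank_one (hodd : Odd (Nat.card Γ)) (H : Subgroup Γ)
    (h : ∀ p : ℕ, p.Prime → p ∣ Nat.card H → Cfsg.PRankLE p 1 Γ) : IsZGroup H := by
  refine ⟨fun p hp S => ?_⟩
  haveI : Fact p.Prime := ⟨hp⟩
  by_cases hS1 : (S : Subgroup H) = ⊥
  · rw [hS1]
    infer_instance
  · have hpS : p ∣ Nat.card (S : Subgroup H) := by
      obtain ⟨n, hn⟩ := IsPGroup.exists_card_eq S.2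
      cases n with
      | zero =>
        exfalso
        apply hS1
        exact Subgroup.card_eq_one.mp (by simpa using hn)
      | succ n => rw [hn]; exact Dvd.intro_left (p ^ n) rfl
    have hpH : p ∣ Nat.card H := hpS.trans (Subgroup.card_subgroup_dvd_card _)
    have hp2 : p ≠ 2 := by
      rintro rfl
      have h1 : 2 ∣ Nat.card Γ := hpH.trans (Subgroup.card_subgroup_dvd_card H)
      rw [Nat.odd_iff] at hodd
      omega
    have hc := cyclic_of_rank_one p hp2 ((S : Subgroup H).map H.subtype) (S.2.map _) (h p hp hpH)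
    exact isCyclic_of_surjective _
      ((S : Subgroup H).equivMapOfInjective H.subtype H.subtype_injective).symm.surjective

theorem hall_tau1_cyclic (hodd : Odd (Nat.card Γ)) (E₁ : Subgroup Γ)
    (h : ∀ p : ℕ, p.Prime → p ∣ Nat.card E₁ →
      ¬ p ∣ Nat.card (commutator Γ) ∧ Cfsg.PRankLE p 1 Γ) : IsCyclic E₁ := by
  have hinf : E₁ ⊓ commutator Γ = ⊥ := by
    rw [← Subgroup.card_eq_one]
    by_contra hne
    obtain ⟨p, hp, hpd⟩ := Nat.exists_prime_and_dvd hne
    have h1 : p ∣ Nat.card E₁ := hpd.trans (Subgroup.card_dvd_of_le inf_le_left)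
    have h2 : p ∣ Nat.card (commutator Γ) := hpd.trans (Subgroup.card_dvd_of_le inf_le_right)
    exact (h p hp h1).1 h2
  have hcomm : ∀ a b : E₁, a * b = b * a := by
    intro a b
    have hmem : (a : Γ) * b * (a : Γ)⁻¹ * (b : Γ)⁻¹ ∈ E₁ ⊓ commutator Γ := by
      refine ⟨E₁.mul_mem (E₁.mul_mem (E₁.mul_mem a.2 b.2) (E₁.inv_mem a.2)) (E₁.inv_mem b.2), ?_⟩
      rw [commutator_def]
      exact Subgroup.commutator_mem_commutator (Subgroup.mem_top _) (Subgroup.mem_top _)
    rw [hinf, Subgroup.mem_bot] at hmem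
    apply Subtype.ext
    have : (a : Γ) * b = b * a := by
      have h2 : (a : Γ) * b * (a : Γ)⁻¹ * (b : Γ)⁻¹ * (b * a) = b * a := by rw [hmem, one_mul]
      rw [← h2]; group
    simpa using this
  haveI := isZGroup_of_rank_one hodd E₁ (fun p hp hd => (h p hp hd).2)
  letI : CommGroup E₁ := { (inferInstance : Group E₁) with mul_comm := hcomm }
  infer_instance

theorem hall_tau3 (hodd : Odd (Nat.card Γ)) [hnil : Group.IsNilpotent (commutator Γ)]
    (E₃ : Subgroup Γ) (hHall : (Nat.card E₃).Coprime E₃.index)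
    (h : ∀ p : ℕ, p.Prime → p ∣ Nat.card E₃ →
      p ∣ Nat.card (commutator Γ) ∧ Cfsg.PRankLE p 1 Γ) :
    IsCyclic E₃ ∧ E₃ ≤ commutator Γ ∧ E₃.Normal := by
  have hcop : (Nat.card E₃).Coprime (commutator Γ).index := by
    apply Nat.coprime_of_dvd
    intro p hp hpd hpi
    haveI : Fact p.Prime := ⟨hp⟩
    have hp2 : p ≠ 2 := by
      rintro rfl
      have h1 : 2 ∣ Nat.card Γ := hpd.trans (Subgroup.card_subgroup_dvd_card E₃)
      rw [Nat.odd_iff] at hodd
      omega
    obtain ⟨P⟩ : Nonempty (Sylow p Γ) := inferInstance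
    haveI : IsCyclic (P : Subgroup Γ) := cyclic_of_rank_one p hp2 P P.2 (h p hp hpd).2
    rcases Sylow.not_dvd_card_commutator_or_not_dvd_index_commutator P with h1 | h1
    · exact h1 (h p hp hpd).1
    · exact h1 hpi
  have hle : E₃ ≤ commutator Γ := le_of_coprime_index (commutator Γ) E₃ hcop
  haveI hZ := isZGroup_of_rank_one hodd E₃ (fun p hp hd => (h p hp hd).2)
  have hnil3 : Group.IsNilpotent E₃ := by
    haveI : Group.IsNilpotent (E₃.subgroupOf (commutator Γ)) := inferInstance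
    exact Group.nilpotent_of_mulEquiv (Subgroup.subgroupOfEquivOfLe hle)
  refine ⟨inferInstance, hle, ?_⟩
  set D := commutator Γ with hD
  have hc0 : Nat.card (E₃.subgroupOf D) = Nat.card E₃ := Helper5.card_subgroupOf_of_le hle
  have hidx : (E₃.subgroupOf D).index ∣ E₃.index := Dvd.intro _ (Subgroup.relIndex_mul_index hle)
  have hcop0 : (Nat.card (E₃.subgroupOf D)).Coprime (E₃.subgroupOf D).index := by
    rw [hc0]
    exact Nat.Coprime.coprime_dvd_right hidx hHall
  haveI hn0 : (E₃.subgroupOf D).Normal := normal_of_hall_nilpotent _ hcop0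
  refine ⟨fun n hn g => ?_⟩
  have hconj : E₃.map (MulAut.conj g).toMonoidHom ≤ D := by
    rintro _ ⟨y, hy, rfl⟩
    have : (commutator Γ).Normal := inferInstance
    simpa [MulAut.conj_apply] using this.conj_mem y (hle hy) g
  have hc1 : Nat.card ((E₃.map (MulAut.conj g).toMonoidHom).subgroupOf D) =
      Nat.card (E₃.subgroupOf D) := by
    rw [Helper5.card_subgroupOf_of_le hconj, hc0]
    exact Subgroup.card_map_of_injective (MulAut.conj g).injective
  have hle2 := map_conj_le_of_normal_hall (E₃.subgroupOf D) hcop0 _ hc1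
  have hmem : g * n * g⁻¹ ∈ E₃.map (MulAut.conj g).toMonoidHom :=
    ⟨n, hn, by simp [MulAut.conj_apply]⟩
  have := hle2 (Subgroup.mem_subgroupOf.mpr (show ((⟨g * n * g⁻¹, hconj hmem⟩ : D) : Γ) ∈ _ from hmem))
  exact Subgroup.mem_subgroupOf.mp this

end Cfsg.Agent.Lib.Helper1.BG12
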