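import Mathlib
import Cfsg.Agent.Lib.Helper1.BG12.TauHall
import Cfsg.Agent.Lib.Helper11.BenderO

set_option autoImplicit false

namespace Cfsg.Agent.Lib.Helper1.BG12

open Cfsg Cfsg.Agent.Lib
open scoped commutatorElement

variable {G : Type*} [Group G] [Finite G]

omit [Finite G] in
theorem pRankLE_of_le {p k : ℕ} {E M : Subgroup G} (hEM : E ≤ M) (h : Cfsg.PRankLE p k M) :
    Cfsg.PRankLE p k E := by
  intro A hA hAp
  have h1 : Cfsg.IsElementaryAbelian p (A.map E.subtype) :=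
    Helper5.elemAb_map E.subtype ⟨hA, hAp⟩
  have hle : A.map E.subtype ≤ M := by
    rintro _ ⟨y, _, rfl⟩
    exact hEM y.2
  have := BG10.pRankLE_card_le h hle h1
  rwa [Subgroup.card_map_of_injective E.subtype_injective] at this

omit [Finite G] in
theorem derived_le (E : Subgroup G) : ⁅E, E⁆ ≤ E := by
  rw [Subgroup.commutator_le]
  intro a ha b hb
  exact E.mul_mem (E.mul_mem (E.mul_mem ha hb) (E.inv_mem ha)) (E.inv_mem hb)

omit [Finite G] in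
theorem card_mul_relIndex_of_le {H K : Subgroup G} (h : H ≤ K) :
    Nat.card H * H.relIndex K = Nat.card K := by
  have := Subgroup.relIndex_mul_relIndex ⊥ H K bot_le h
  rwa [Subgroup.relIndex_bot_left, Subgroup.relIndex_bot_left] at this

omit [Finite G] in
theorem card_commutator_subgroup (E : Subgroup G) :
    Nat.card (commutator E) = Nat.card ↥⁅E, E⁆ := by
  rw [← Subgroup.map_subtype_commutator E]
  exact (Subgroup.card_map_of_injective E.subtype_injective).symm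

theorem nilpotent_derived_compl (hG : Cfsg.IsMinSimpleOddOrder G) (M : Subgroup G) (hM : IsCoatom M)
    (E : Subgroup G) (hE : Cfsg.IsComplIn E (Cfsg.sigmaCore M) M) :
    Group.IsNilpotent ↥⁅E, E⁆ := by
  obtain ⟨_, _, hασ, _, hnil⟩ := Helper11.BenderN.alpha_hall hG M hM
  have hEM : E ≤ M := hE.1
  have hEE : ⁅E, E⁆ ≤ E := derived_le E
  have hEEM : ⁅E, E⁆ ≤ M := hEE.trans hEM
  set N := Cfsg.piCore (Cfsg.alpha M) ↥M with hN
  let g : ↥⁅E, E⁆ →* ↥M ⧸ N := (QuotientGroup.mk' N).comp (Subgroup.inclusion hEEM)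
  have hinj : Function.Injective g := by
    rw [injective_iff_map_eq_one]
    intro x hx
    have h1 : Subgroup.inclusion hEEM x ∈ N := by
      have : (QuotientGroup.mk' N) (Subgroup.inclusion hEEM x) = 1 := hx
      rwa [QuotientGroup.mk'_apply, QuotientGroup.eq_one_iff] at this
    have h2 : (x : G) ∈ Cfsg.alphaCore M := ⟨Subgroup.inclusion hEEM x, h1, rfl⟩
    have h3 : (x : G) ∈ E ⊓ Cfsg.sigmaCore M := ⟨hEE x.2, hασ h2⟩
    rw [hE.2.2.1, Subgroup.mem_bot] at h3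
    exact Subtype.ext h3
  have hrange : g.range ≤ (commutator ↥M).map (QuotientGroup.mk' N) := by
    rintro _ ⟨x, rfl⟩
    refine ⟨Subgroup.inclusion hEEM x, ?_, rfl⟩
    have h1 : (x : G) ∈ ⁅M, M⁆ := Subgroup.commutator_mono hEM hEM x.2
    rw [← Subgroup.map_subtype_commutator M] at h1
    obtain ⟨y, hy, hyx⟩ := h1
    have : y = Subgroup.inclusion hEEM x := Subtype.ext hyx
    rwa [← this]
  have := hnil
  have : Group.IsNilpotent (g.range.subgroupOf ((commutator ↥M).map (QuotientGroup.mk' N))) :=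
    inferInstance
  have : Group.IsNilpotent g.range :=
    Group.nilpotent_of_mulEquiv (Subgroup.subgroupOfEquivOfLe hrange)
  exact Group.nilpotent_of_mulEquiv (MonoidHom.ofInjective hinj).symm

theorem derived_le_sigmaCore_sup (M : Subgroup G) (E : Subgroup G)
    (hE : Cfsg.IsComplIn E (Cfsg.sigmaCore M) M) :
    ⁅M, M⁆ ≤ ⁅E, E⁆ ⊔ Cfsg.sigmaCore M := by
  rw [Subgroup.commutator_le]
  intro x hx y hy
  obtain ⟨a₁, ha₁, b₁, hb₁, rfl⟩ := hE.2.2.2 x hx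
  obtain ⟨a₂, ha₂, b₂, hb₂, rfl⟩ := hE.2.2.2 y hy
  set N := Cfsg.piCore (Cfsg.sigma M) ↥M with hN
  have hEM : E ≤ M := hE.1
  obtain ⟨c₁, hc₁, rfl⟩ := hb₁
  obtain ⟨c₂, hc₂, rfl⟩ := hb₂
  let A₁ : ↥M := ⟨a₁, hEM ha₁⟩
  let A₂ : ↥M := ⟨a₂, hEM ha₂⟩
  have hq1 : QuotientGroup.mk' N (A₁ * c₁) = QuotientGroup.mk' N A₁ := by
    rw [map_mul]
    have : QuotientGroup.mk' N c₁ = 1 := by
      rw [QuotientGroup.mk'_apply, QuotientGroup.eq_one_iff]; exact hc₁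
    rw [this, mul_one]
  have hq2 : QuotientGroup.mk' N (A₂ * c₂) = QuotientGroup.mk' N A₂ := by
    rw [map_mul]
    have : QuotientGroup.mk' N c₂ = 1 := by
      rw [QuotientGroup.mk'_apply, QuotientGroup.eq_one_iff]; exact hc₂
    rw [this, mul_one]
  have hq : QuotientGroup.mk' N (⁅A₁, A₂⁆⁻¹ * ⁅A₁ * c₁, A₂ * c₂⁆) = 1 := by
    rw [map_mul, map_inv, map_commutatorElement, map_commutatorElement, hq1, hq2, inv_mul_cancel]
  rw [QuotientGroup.mk'_apply, QuotientGroup.eq_one_iff] at hq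
  have hmem : ((⁅A₁, A₂⁆⁻¹ * ⁅A₁ * c₁, A₂ * c₂⁆ : ↥M) : G) ∈ Cfsg.sigmaCore M :=
    ⟨_, hq, rfl⟩
  have hcomm : ⁅a₁, a₂⁆ ∈ ⁅E, E⁆ := Subgroup.commutator_mem_commutator ha₁ ha₂
  have heq : ⁅a₁ * (c₁ : G), a₂ * (c₂ : G)⁆ =
      ⁅a₁, a₂⁆ * ((⁅A₁, A₂⁆⁻¹ * ⁅A₁ * c₁, A₂ * c₂⁆ : ↥M) : G) := by
    simp only [commutatorElement_def, Subgroup.coe_mul, Subgroup.coe_inv, A₁, A₂]
    group
  show ⁅a₁ * (c₁ : G), a₂ * (c₂ : G)⁆ ∈ ⁅E, E⁆ ⊔ Cfsg.sigmaCore M
  rw [heq]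
  exact Subgroup.mul_mem_sup hcomm hmem

theorem dvd_card_derived_compl (hG : Cfsg.IsMinSimpleOddOrder G) (M : Subgroup G) (hM : IsCoatom M)
    (E : Subgroup G) (hE : Cfsg.IsComplIn E (Cfsg.sigmaCore M) M) (p : ℕ) (hp : p.Prime)
    (hpσ : p ∉ Cfsg.sigma M) (hpd : p ∣ Nat.card ↥⁅M, M⁆) : p ∣ Nat.card ↥⁅E, E⁆ := by
  obtain ⟨hσ, _, _⟩ := Helper11.BenderO.sigma_hall hG M hM
  have hEM : E ≤ M := hE.1
  have hKM : ⁅E, E⁆ ≤ M := (derived_le E).trans hEM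
  have hSn : M ≤ Subgroup.normalizer ((Cfsg.sigmaCore M : Subgroup G) : Set G) := by
    intro m hm
    apply Helper18.mem_normalizer_of_conjSub_le
    intro x hx
    rw [Helper18.mem_conjSub] at hx
    obtain ⟨c, hc, hcx⟩ := hx
    have hn : (Cfsg.piCore (Cfsg.sigma M) ↥M).Normal := inferInstance
    have := hn.conj_mem c hc ⟨m, hm⟩
    refine ⟨_, this, ?_⟩
    simp only [Subgroup.coe_subtype, Subgroup.coe_mul, Subgroup.coe_inv]
    rw [show (c : G) = m⁻¹ * x * m from hcx]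
    group
  have h1 := Helper18.relIndex_sup_of_le_normalizer ⁅E, E⁆ (Cfsg.sigmaCore M) (hKM.trans hSn)
  have h2 : Nat.card ↥(⁅E, E⁆ ⊔ Cfsg.sigmaCore M) =
      Nat.card ↥⁅E, E⁆ * (⁅E, E⁆).relIndex (⁅E, E⁆ ⊔ Cfsg.sigmaCore M) :=
    (card_mul_relIndex_of_le le_sup_left).symm
  have h3 : p ∣ Nat.card ↥(⁅E, E⁆ ⊔ Cfsg.sigmaCore M) :=
    hpd.trans (Subgroup.card_dvd_of_le (derived_le_sigmaCore_sup M E hE))
  rw [h2, h1] at h3
  rcases (Nat.Prime.dvd_mul hp).mp h3 with h4 | h4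
  · exact h4
  · exfalso
    have h5 : (⁅E, E⁆).relIndex (Cfsg.sigmaCore M) ∣ Nat.card (Cfsg.sigmaCore M) := by
      rw [← Subgroup.inf_relIndex_right]
      exact Subgroup.relIndex_dvd_card _ _
    exact hpσ (hσ.2.1 p hp (h4.trans h5))

end Cfsg.Agent.Lib.Helper1.BG12
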