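import Mathlib
import Cfsg.Agent.Lib.Helper1.BG12.TwelveOne

set_option autoImplicit false

namespace Cfsg.Agent.Lib.Helper1.BG12

open Cfsg Cfsg.Agent.Lib
open scoped commutatorElement

variable {G : Type*} [Group G] [Finite G]

theorem odd_card_subgroup (hG : Cfsg.IsMinSimpleOddOrder G) (E : Subgroup G) :
    Odd (Nat.card E) := by
  have h := hG.1
  exact Odd.of_dvd_nat h (Subgroup.card_subgroup_dvd_card E)

theorem nilpotent_commutator_compl (hG : Cfsg.IsMinSimpleOddOrder G) (M : Subgroup G)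
    (hM : IsCoatom M) (E : Subgroup G) (hE : Cfsg.IsComplIn E (Cfsg.sigmaCore M) M) :
    Group.IsNilpotent (commutator E) := by
  have h1 := nilpotent_derived_compl hG M hM E hE
  have e1 : ↥(commutator E) ≃* ↥((commutator E).map E.subtype) :=
    (commutator E).equivMapOfInjective E.subtype E.subtype_injective
  have e2 : ↥((commutator E).map E.subtype) ≃* ↥⁅E, E⁆ :=
    MulEquiv.subgroupCongr (Subgroup.map_subtype_commutator E)
  exact Group.nilpotent_of_mulEquiv (e1.trans e2).symm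

theorem twelve_one (hG : Cfsg.IsMinSimpleOddOrder G)
    (M : Subgroup G) (hM : IsCoatom M) (E : Subgroup G)
    (hE : Cfsg.IsComplIn E (Cfsg.sigmaCore M) M) :
    Group.IsNilpotent ↥⁅E, E⁆ ∧
      (∀ E₁ : Subgroup G, Cfsg.IsPiHallOf (Cfsg.tau1 M) E₁ E → IsCyclic E₁) ∧
      ∀ E₃ : Subgroup G, Cfsg.IsPiHallOf (Cfsg.tau3 M) E₃ E →
        IsCyclic E₃ ∧ E₃ ≤ ⁅E, E⁆ ∧ E ≤ Subgroup.normalizer (E₃ : Set G) := by
  have hEM : E ≤ M := hE.1
  have hodd := odd_card_subgroup hG E
  refine ⟨nilpotent_derived_compl hG M hM E hE, ?_, ?_⟩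
  · intro E₁ hE₁
    obtain ⟨hE₁E, hπ, _⟩ := hE₁
    have hc : Nat.card (E₁.subgroupOf E) = Nat.card E₁ := Helper5.card_subgroupOf_of_le hE₁E
    have := hall_tau1_cyclic hodd (E₁.subgroupOf E) (by
      intro p hp hpd
      rw [hc] at hpd
      obtain ⟨_, _, _, hnd, hr⟩ := hπ p hp hpd
      refine ⟨?_, pRankLE_of_le hEM hr⟩
      rw [card_commutator_subgroup]
      intro h
      exact hnd (h.trans (Subgroup.card_dvd_of_le (Subgroup.commutator_mono hEM hEM))))
    exact isCyclic_of_surjective _ (Subgroup.subgroupOfEquivOfLe hE₁E).surjective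
  · intro E₃ hE₃
    obtain ⟨hE₃E, hπ, hidx⟩ := hE₃
    have hc : Nat.card (E₃.subgroupOf E) = Nat.card E₃ := Helper5.card_subgroupOf_of_le hE₃E
    haveI := nilpotent_commutator_compl hG M hM E hE
    have hHall : (Nat.card (E₃.subgroupOf E)).Coprime (E₃.subgroupOf E).index := by
      rw [hc]
      apply Nat.coprime_of_dvd
      intro p hp hpd hpi
      exact hidx p hp (hπ p hp hpd) hpi
    obtain ⟨h1, h2, h3⟩ := hall_tau3 hodd (E₃.subgroupOf E) hHall (by
      intro p hp hpd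
      rw [hc] at hpd
      obtain ⟨_, hpσ, hd, hr⟩ := hπ p hp hpd
      refine ⟨?_, pRankLE_of_le hEM hr⟩
      rw [card_commutator_subgroup]
      exact dvd_card_derived_compl hG M hM E hE p hp hpσ hd)
    refine ⟨isCyclic_of_surjective _ (Subgroup.subgroupOfEquivOfLe hE₃E).surjective, ?_, ?_⟩
    · intro x hx
      have hx' : (⟨x, hE₃E hx⟩ : E) ∈ E₃.subgroupOf E := Subgroup.mem_subgroupOf.mpr hx
      have := h2 hx'
      rw [← Subgroup.map_subtype_commutator E]
      exact ⟨_, this, rfl⟩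
    · exact (Subgroup.normal_subgroupOf_iff_le_normalizer hE₃E).mp h3

end Cfsg.Agent.Lib.Helper1.BG12
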